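import Mathlib
import Cfsg.Agent.SmallSimple.TheoremB
import Cfsg.Agent.SmallSimple.BlockInter
import Cfsg.Agent.Characters.GaloisIrr
import Cfsg.Agent.Blocks.GaloisConj
import Cfsg.Agent.SmallSimple.SylowPrimeCount
import Cfsg.Agent.SmallSimple.BlockShared
import Cfsg.Agent.H852.RatB.Real
import Cfsg.Agent.Blocks.ExistsModular
import Cfsg.Agent.FastGrp
import Cfsg.Agent.Prune
set_option linter.all false

section
prune_inst 0x7ff1fffc1fa987ffffff7e3ffed5dffc12c0cfffffdffb03ffe9e19fcf9f033339c5ff851df058ff9ed6e0b430b87813ebffdeffed63fc7ffffd5ff41ffbee5fe5fe338111d588340f306fff83f17fee7f3fffffffffdffffffffffff7ffffffffffffffffff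

-- part: H602/B0R/Ne
section
set_option linter.all false
open scoped Cfsg.Agent.FastGrp

/-!
# Non-exceptional characters of the principal block, `|G|_p = p`

* `NE p f` : `f` is constant `1` or constant `-1` on the elements of order divisible by `p`.
* `tw_mem` : the principal block is stable under the Galois twists `g ↦ χ (g ^ k)`.
* `exc` : values of the exceptional characters of the principal block.
* `pow_card_eq_one` : `k ^ e = 1 mod p` if an exceptional character satisfies `χ (x ^ k) = χ x` on `P`.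
-/

set_option autoImplicit false

open Subgroup
open scoped ComplexConjugate

namespace Cfsg.Agent.H602.B0R

open Cfsg Cfsg.Agent.Characters.Core Cfsg.Agent.Blocks

universe u

variable {G : Type u} [Group G]

/-- constant `1` or constant `-1` on the elements of order divisible by `p` -/
def NE (p : ℕ) (f : G → ℂ) : Prop := ∃ ε : ℤ, (ε = 1 ∨ ε = -1) ∧ ∀ g : G, p ∣ orderOf g → f g = ε

/-- the Galois twist of an irreducible character -/
noncomputable def tw [Finite G] (k : ℕ) (hk : k.Coprime (Nat.card G)) (χ : IrrCharacter G) : IrrCharacter G :=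
  ⟨fun g => (χ : G → ℂ) (g ^ k), Characters.GaloisIrr.isIrr_pow hk χ.2⟩

theorem tw_apply [Finite G] {k : ℕ} (hk : k.Coprime (Nat.card G)) (χ : IrrCharacter G) (g : G) :
    (tw k hk χ : G → ℂ) g = (χ : G → ℂ) (g ^ k) := rfl

theorem tw_mem [Finite G] {M : Ideal AlgInt} {k : ℕ} (hk : k.Coprime (Nat.card G)) {χ : IrrCharacter G}
    (hχ : χ ∈ principalBlock M G) : tw k hk χ ∈ principalBlock M G := by
  intro g
  have h1 := hχ (g ^ k)
  have hc := GaloisConj.centralizer_pow_eq (g := g) (n := Nat.card G) (m := k) pow_card_eq_one' hk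
  have h2 : centralChar (fun _ : G => (1 : ℂ)) (g ^ k) = centralChar (fun _ : G => (1 : ℂ)) g := by
    unfold centralChar
    rw [hc]
  have h3 : centralChar (χ : G → ℂ) (g ^ k) = centralChar (tw k hk χ : G → ℂ) g := by
    unfold centralChar
    rw [hc, tw_apply, tw_apply, one_pow]
  rw [h2, h3] at h1
  exact h1

theorem orderOf_pow_of_coprime [Finite G] {k : ℕ} (hk : k.Coprime (Nat.card G)) (g : G) :
    orderOf (g ^ k) = orderOf g := by
  have h1 : (orderOf g).Coprime k := (hk.coprime_dvd_right (orderOf_dvd_natCard g)).symm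
  exact h1.orderOf_pow

theorem NE.tw [Finite G] {p k : ℕ} (hk : k.Coprime (Nat.card G)) {χ : IrrCharacter G}
    (h : NE p (χ : G → ℂ)) : NE p (tw k hk χ : G → ℂ) := by
  obtain ⟨ε, hε, h⟩ := h
  refine ⟨ε, hε, fun g hg => ?_⟩
  rw [tw_apply]
  exact h _ (by rwa [orderOf_pow_of_coprime hk])

/-- every element of order divisible by `p` is conjugate to `x * y` -/
theorem exists_isConj_mul [Finite G] {p : ℕ} [hp : Fact p.Prime] (P : Sylow p G) {g : G}
    (hg : p ∣ orderOf g) : ∃ x ∈ P, x ≠ 1 ∧ ∃ y : G, Commute x y ∧ ¬ p ∣ orderOf y ∧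
      IsConj g (x * y) := by
  obtain ⟨z, hz⟩ := PPart.exists_isPPart p g
  have hz1 := SmallSimple.BlockInter.isPPart_ne_one hz hg
  obtain ⟨y, rfl, hzy, ⟨k, hk⟩, hy⟩ := hz
  have hzp : IsPGroup p (zpowers z) := by
    rw [IsPGroup.iff_card, Nat.card_zpowers]
    exact ⟨k, hk⟩
  obtain ⟨Q, hQ⟩ := hzp.exists_le_sylow
  obtain ⟨c, hc⟩ := MulAction.exists_smul_eq G Q P
  have h1 : c * z * c⁻¹ ∈ P := by
    have h2 : c * z * c⁻¹ ∈ (c • Q : Sylow p G) := by
      rw [← SetLike.mem_coe, Sylow.coe_smul]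
      exact ⟨z, hQ (mem_zpowers z), rfl⟩
    rwa [hc] at h2
  have h2 : c * z * c⁻¹ ≠ 1 := by
    intro h
    exact hz1 (conj_eq_one_iff.1 h)
  refine ⟨_, h1, h2, c * y * c⁻¹, ?_, ?_, ?_⟩
  · exact hzy.map (MulAut.conj c).toMonoidHom
  · have ho : orderOf (c * y * c⁻¹) = orderOf y := by
      have := orderOf_injective (MulAut.conj c).toMonoidHom (MulAut.conj c).injective y
      simpa using this
    rwa [ho]
  · exact isConj_iff.2 ⟨c, by group⟩

theorem apply_eq_of_isConj [Finite G] (χ : IrrCharacter G) {g h : G} (hgh : IsConj g h) :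
    (χ : G → ℂ) g = (χ : G → ℂ) h := by
  obtain ⟨c, rfl⟩ := isConj_iff.1 hgh
  exact (Basic.irr_conj χ.2 g c).symm

section data

variable [Finite G] {p : ℕ} [hp : Fact p.Prime] (P : Sylow p G) (hP : Nat.card P = p)
  {M : Ideal AlgInt} (hM : IsPModular p M)

include hP hM

/-- a member of the principal block is determined by its values on `P` and on the `p`-regular elements -/
theorem eq_of_eq_on {χ χ' : IrrCharacter G} (hχ : χ ∈ principalBlock M G) (hχ' : χ' ∈ principalBlock M G)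
    (h1 : ∀ x ∈ P, x ≠ 1 → (χ : G → ℂ) x = (χ' : G → ℂ) x)
    (h2 : ∀ g : G, ¬ p ∣ orderOf g → (χ : G → ℂ) g = (χ' : G → ℂ) g) : χ = χ' := by
  apply Subtype.ext
  funext g
  by_cases hg : p ∣ orderOf g
  · obtain ⟨x, hx, hx1, y, hxy, hyr, hc⟩ := exists_isConj_mul P hg
    rw [apply_eq_of_isConj χ hc, apply_eq_of_isConj χ' hc, CyclicOrtho.mul_eq P hP hM hx hx1 hxy hyr hχ,
      CyclicOrtho.mul_eq P hP hM hx hx1 hxy hyr hχ', h1 x hx hx1]
  · exact h2 g hg

theorem ne_of_const {χ : IrrCharacter G} (hχ : χ ∈ principalBlock M G) {ε : ℤ} (hε : ε = 1 ∨ ε = -1)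
    (h1 : ∀ x ∈ P, x ≠ 1 → (χ : G → ℂ) x = ε) : NE p (χ : G → ℂ) := by
  refine ⟨ε, hε, fun g hg => ?_⟩
  obtain ⟨x, hx, hx1, y, hxy, hyr, hc⟩ := exists_isConj_mul P hg
  rw [apply_eq_of_isConj χ hc, CyclicOrtho.mul_eq P hP hM hx hx1 hxy hyr hχ, h1 x hx hx1]

/-- the exceptional characters -/
theorem exc (hp2 : p ≠ 2) (e : ℕ) (he : (centralizer (P : Set G)).relIndex (normalizer (P : Set G)) = e)
    {χ : IrrCharacter G} (hχ : χ ∈ principalBlock M G) (hn : ¬ NE p (χ : G → ℂ)) :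
    ∃ (d : ℤ) (S : Finset (P →* ℂˣ)), (d = 1 ∨ d = -1) ∧ S.card = e ∧ 1 ∉ S ∧
      (∀ x : P, x ≠ 1 → (χ : G → ℂ) x = d * ∑ l ∈ S, ((l x : ℂˣ) : ℂ)) ∧
      (∀ χ' : IrrCharacter G, χ' ∈ principalBlock M G → ¬ NE p (χ' : G → ℂ) →
        ∀ g : G, ¬ p ∣ orderOf g → (χ : G → ℂ) g = (χ' : G → ℂ) g) := by
  classical
  have hpp := hp.out
  have hdvd : e ∣ p - 1 := he ▸ SmallSimple.SylowPrimeCount.relIndex_dvd_pred (P := (P : Subgroup G)) hp.out hP
  obtain ⟨t, ht⟩ := hdvd
  obtain ⟨NEs, X, ε, d, S, hB, h1, h2, h3, h4, h5, h6, h7, h8, h9, h10⟩ :=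
    SmallSimple.TheoremB.theoremB p hp2 M hM P hP e t he ht.symm
  have hone : ¬ p ∣ orderOf (1 : G) := by
    rw [orderOf_one]; exact fun h => hpp.one_lt.ne' (Nat.dvd_one.1 h)
  have hX : ∀ χ : IrrCharacter G, χ ∈ principalBlock M G → ¬ NE p (χ : G → ℂ) → χ ∈ X := by
    intro χ hχ hn
    rcases (hB χ).1 hχ with h | h
    · exfalso
      apply hn
      refine ne_of_const P hP hM hχ (h4 χ h) fun x hx hx1 => ?_
      have := h7 χ h x hx hx1 1 (one_mem _) hone
      rwa [mul_one] at this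
    · exact h
  have hd0 : (d : ℂ) ≠ 0 := by
    rcases h5 with h | h <;> rw [h] <;> norm_num
  refine ⟨d, S χ, h5, (h8 χ (hX χ hχ hn)).1, (h8 χ (hX χ hχ hn)).2.1, fun x hx => ?_, ?_⟩
  · have := (h8 χ (hX χ hχ hn)).2.2 x hx 1 (one_mem _) hone
    rwa [mul_one] at this
  · intro χ' hχ' hn' g hg
    have e1 := h10 χ (hX χ hχ hn) g hg
    have e2 := h10 χ' (hX χ' hχ' hn') g hg
    exact mul_left_cancel₀ hd0 (e1.symm.trans e2)

end data

end Cfsg.Agent.H602.B0R
end

-- part: H602/B0R/Inter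
section
prune_inst 0x3c040200000000180000a2002210500000000004800000e002000b000020a001a00008200400004488800000014002100000c00000000a000000000001201042860081480104a00000800000000000000000000000000000008000000000000000000
set_option linter.all false
open scoped Cfsg.Agent.FastGrp

/-!
# The intersection of two principal blocks, `|G|_p = p`, `|G|_q = q`, no element of order `p q`

* `pow_card_modEq` : `k ^ e ≡ 1 mod p` if an exceptional character satisfies `χ (x ^ k) = χ x` on `P`.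
* `ne_or_ne` : a common member of the two principal blocks is non-exceptional for `p` or for `q`.
* `even_inter` : the number of common members is even if they are all non-exceptional for both primes.
-/

set_option autoImplicit false

open Subgroup
open scoped ComplexConjugate

namespace Cfsg.Agent.H602.B0R

open Cfsg Cfsg.Agent.Characters.Core Cfsg.Agent.Blocks Cfsg.Agent.SmallSimple

universe u

section dual

variable {Q : Type u} [Group Q] [Finite Q] {p : ℕ}

theorem eq_image_of_sum_eq (hp : p.Prime) (hQ : Nat.card Q = p) {k : ℕ} (hk : k.Coprime p)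
    [DecidableEq (Q →* ℂˣ)] {S : Finset (Q →* ℂˣ)} (h1 : 1 ∉ S)
    (h : ∀ x : Q, x ≠ 1 → ∑ l ∈ S, ((l (x ^ k) : ℂˣ) : ℂ) = ∑ l ∈ S, ((l x : ℂˣ) : ℂ)) :
    S.image (fun l => l ^ k) = S := by
  classical
  have := PrimeDual.finite_dual hp hQ
  have := Fintype.ofFinite (Q →* ℂˣ)
  have hcard := PrimeDual.card_dual hp hQ
  have hinj : Function.Injective (fun l : Q →* ℂˣ => l ^ k) := by
    intro a b hab
    have h2 : (Nat.card (Q →* ℂˣ)).Coprime k := by rw [hcard]; exact hk.symm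
    exact (powCoprime h2).injective hab
  let b : (Q →* ℂˣ) → ℂ := fun l => (if l ∈ S then 1 else 0) - (if l ∈ S.image (fun l => l ^ k) then 1 else 0)
  have hb : ∀ x : Q, x ≠ 1 → ∑ l : Q →* ℂˣ, b l * conj ((l x : ℂˣ) : ℂ) = 0 := by
    intro x hx
    have h2 := h x⁻¹ (inv_ne_one.2 hx)
    simp only [b, sub_mul, ite_mul, one_mul, zero_mul, Finset.sum_sub_distrib]
    rw [← Finset.sum_filter, ← Finset.sum_filter, Finset.filter_mem_eq_inter, Finset.filter_mem_eq_inter,
      Finset.univ_inter, Finset.univ_inter, Finset.sum_image (fun a _ b _ h => hinj h), sub_eq_zero]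
    simp only [PrimeDual.conj_hom_apply]
    rw [← h2]
    refine Finset.sum_congr rfl fun l _ => ?_
    rw [MonoidHom.pow_apply, ← map_pow]
  have hconst : ∀ l, b l = 0 := by
    intro l
    rw [PrimeDual.eq_of_sum_eq_zero b hb l 1]
    have h3 : (1 : Q →* ℂˣ) ∉ S.image (fun l => l ^ k) := by
      intro h4
      obtain ⟨l, hl, hl1⟩ := Finset.mem_image.1 h4
      have : l = 1 := hinj (hl1.trans (by ext; simp))
      exact h1 (this ▸ hl)
    simp only [b, if_neg h1, if_neg h3, sub_zero]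
  ext l
  have h4 := hconst l
  simp only [b] at h4
  by_cases h5 : l ∈ S <;> by_cases h6 : l ∈ S.image (fun l => l ^ k)
  · exact ⟨fun _ => h5, fun _ => h6⟩
  · rw [if_pos h5, if_neg h6] at h4; norm_num at h4
  · rw [if_neg h5, if_pos h6] at h4; norm_num at h4
  · exact ⟨fun h => absurd h h6, fun h => absurd h h5⟩

theorem pow_card_of_image_eq (hp : p.Prime) (hQ : Nat.card Q = p) {k : ℕ} (hk : k.Coprime p)
    [DecidableEq (Q →* ℂˣ)] {S : Finset (Q →* ℂˣ)} (h1 : 1 ∉ S)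
    (h : S.image (fun l => l ^ k) = S) : k ^ S.card ≡ 1 [MOD p] := by
  have := Fact.mk hp
  have hcard := PrimeDual.card_dual hp hQ
  have hc2 : Nat.card (Multiplicative (ZMod p)) = p := by
    rw [Nat.card_congr Multiplicative.toAdd, Nat.card_eq_fintype_card]
    exact ZMod.card p
  let φ : (Q →* ℂˣ) ≃* Multiplicative (ZMod p) := mulEquivOfPrimeCardEq hcard hc2
  let a : (Q →* ℂˣ) → ZMod p := fun l => Multiplicative.toAdd (φ l)
  have ha0 : ∀ l, l ≠ 1 → a l ≠ 0 := by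
    intro l hl h0
    apply hl
    apply φ.injective
    rw [map_one]
    exact h0
  have hak : ∀ l, a (l ^ k) = (k : ZMod p) * a l := by
    intro l
    have h1 : φ (l ^ k) = φ l ^ k := map_pow φ l k
    show Multiplicative.toAdd (φ (l ^ k)) = _
    rw [h1, toAdd_pow, nsmul_eq_mul]
  have hinj : Function.Injective (fun l : Q →* ℂˣ => l ^ k) := by
    intro x y hab
    have h2 : (Nat.card (Q →* ℂˣ)).Coprime k := by rw [hcard]; exact hk.symm
    exact (powCoprime h2).injective hab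
  have h3 : ∏ l ∈ S, a l = (k : ZMod p) ^ S.card * ∏ l ∈ S, a l := by
    conv_lhs => rw [← h]
    rw [Finset.prod_image (fun x _ y _ h => hinj h), Finset.prod_congr rfl fun l _ => hak l,
      Finset.prod_mul_distrib, Finset.prod_const]
  have h4 : ∏ l ∈ S, a l ≠ 0 := Finset.prod_ne_zero_iff.2 fun l hl => ha0 l fun h5 => h1 (h5 ▸ hl)
  have h5 : (k : ZMod p) ^ S.card = 1 := by
    have h6 : (1 : ZMod p) * ∏ l ∈ S, a l = (k : ZMod p) ^ S.card * ∏ l ∈ S, a l := by rw [one_mul]; exact h3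
    exact (mul_right_cancel₀ h4 h6).symm
  rw [← ZMod.natCast_eq_natCast_iff]
  push_cast
  exact h5

end dual

variable {G : Type u} [Group G] [Finite G]

/-- an exceptional character with `χ (x ^ k) = χ x` on `P` -/
theorem pow_card_modEq {p : ℕ} [hp : Fact p.Prime] (P : Sylow p G) (hP : Nat.card P = p)
    {M : Ideal AlgInt} (hM : IsPModular p M) (hp2 : p ≠ 2) (e : ℕ)
    (he : (centralizer (P : Set G)).relIndex (normalizer (P : Set G)) = e)
    {χ : IrrCharacter G} (hχ : χ ∈ principalBlock M G) (hn : ¬ NE p (χ : G → ℂ)) {k : ℕ}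
    (hk : k.Coprime p) (hχk : ∀ x ∈ P, x ≠ 1 → (χ : G → ℂ) (x ^ k) = (χ : G → ℂ) x) :
    k ^ e ≡ 1 [MOD p] := by
  classical
  obtain ⟨d, S, hd, hS, hS1, hv, -⟩ := exc P hP hM hp2 e he hχ hn
  have hd0 : (d : ℂ) ≠ 0 := by
    rcases hd with h | h <;> rw [h] <;> norm_num
  rw [← hS]
  refine pow_card_of_image_eq hp.out hP hk hS1 (eq_image_of_sum_eq hp.out hP hk hS1 fun x hx => ?_)
  have hxk : x ^ k ≠ 1 := by
    intro h
    apply hx
    have h2 : (Nat.card P).Coprime k := by rw [hP]; exact hk.symm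
    apply (powCoprime h2).injective
    show x ^ k = 1 ^ k
    rw [h, one_pow]
  have h1 := hv (x ^ k) hxk
  have h2 := hv x hx
  have h3 := hχk x x.2 (fun h => hx (Subtype.ext h))
  rw [SubmonoidClass.coe_pow] at h1
  rw [h1, h2] at h3
  exact mul_left_cancel₀ hd0 h3

/-- an exceptional character is not fixed by all powers on `P` -/
theorem ne_of_forall_pow {p : ℕ} [hp : Fact p.Prime] (P : Sylow p G) (hP : Nat.card P = p)
    {M : Ideal AlgInt} (hM : IsPModular p M) (hp2 : p ≠ 2)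
    {χ : IrrCharacter G} (hχ : χ ∈ principalBlock M G)
    (hχk : ∀ k : ℕ, k.Coprime p → ∀ x ∈ P, x ≠ 1 → (χ : G → ℂ) (x ^ k) = (χ : G → ℂ) x) : NE p (χ : G → ℂ) := by
  classical
  by_contra hn
  obtain ⟨d, S, hd, hS, hS1, hv, -⟩ := exc P hP hM hp2 _ rfl hχ hn
  have := PrimeDual.finite_dual hp.out hP
  have := Fintype.ofFinite (P →* ℂˣ)
  have hd0 : (d : ℂ) ≠ 0 := by
    rcases hd with h | h <;> rw [h] <;> norm_num
  have himg : ∀ k : ℕ, k.Coprime p → S.image (fun l => l ^ k) = S := by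
    intro k hk
    refine eq_image_of_sum_eq hp.out hP hk hS1 fun x hx => ?_
    have hxk : x ^ k ≠ 1 := by
      intro h
      apply hx
      have h2 : (Nat.card P).Coprime k := by rw [hP]; exact hk.symm
      apply (powCoprime h2).injective
      show x ^ k = 1 ^ k
      rw [h, one_pow]
    have h1 := hv (x ^ k) hxk
    have h2 := hv x hx
    have h3 := hχk k hk x x.2 (fun h => hx (Subtype.ext h))
    rw [SubmonoidClass.coe_pow] at h1
    rw [h1, h2] at h3
    exact mul_left_cancel₀ hd0 h3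
  -- `S` is everything but `1`
  rcases S.eq_empty_or_nonempty with h0 | ⟨l₀, hl₀⟩
  · have h1 : (Subgroup.centralizer ((P : Subgroup G) : Set G)).relIndex (Subgroup.normalizer ((P : Subgroup G) : Set G)) = 0 := by
      rw [h0, Finset.card_empty] at hS
      exact hS.symm
    exact Subgroup.index_ne_zero_of_finite h1
  · have hl1 : l₀ ≠ 1 := fun h => hS1 (h ▸ hl₀)
    have hcard := PrimeDual.card_dual hp.out hP
    have hall : ∀ l : P →* ℂˣ, l ≠ 1 → l ∈ S := by
      intro l hl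
      have h2 : l ∈ Subgroup.zpowers l₀ := mem_zpowers_of_prime_card hcard hl1
      rw [← mem_powers_iff_mem_zpowers] at h2
      obtain ⟨k, rfl⟩ := h2
      have hk : k.Coprime p := by
        rw [Nat.coprime_comm, Nat.Prime.coprime_iff_not_dvd hp.out]
        rintro ⟨m, rfl⟩
        apply hl
        ext x
        have h3 : x ^ Nat.card P = 1 := pow_card_eq_one'
        have h4 : x ^ (p * m) = 1 := by
          rw [show p * m = Nat.card P * m by rw [hP], pow_mul, h3, one_pow]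
        show (((l₀ x) ^ (p * m) : ℂˣ) : ℂ) = 1
        rw [← map_pow, h4, map_one, Units.val_one]
      rw [← himg k hk]
      exact Finset.mem_image_of_mem _ hl₀
    have hS' : S = Finset.univ.erase 1 := by
      ext l
      rw [Finset.mem_erase]
      exact ⟨fun h => ⟨fun h' => hS1 (h' ▸ h), Finset.mem_univ _⟩, fun h => hall l h.1⟩
    apply hn
    refine ne_of_const P hP hM hχ (ε := -d) (by rcases hd with h | h <;> rw [h] <;> norm_num) fun x hx hx1 => ?_
    have hx1' : (⟨x, hx⟩ : P) ≠ 1 := fun h => hx1 (congrArg Subtype.val h)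
    have h2 := hv ⟨x, hx⟩ hx1'
    have h3 := PrimeDual.sum_dual_eq_zero hp.out hP hx1'
    rw [← Finset.add_sum_erase _ _ (Finset.mem_univ (1 : P →* ℂˣ))] at h3
    rw [hS'] at h2
    show (χ : G → ℂ) ((⟨x, hx⟩ : P) : G) = _
    rw [h2]
    have h4 : ∑ l ∈ Finset.univ.erase (1 : P →* ℂˣ), ((l ⟨x, hx⟩ : ℂˣ) : ℂ) = -1 := by
      have h5 : (((1 : P →* ℂˣ) ⟨x, hx⟩ : ℂˣ) : ℂ) = 1 := rfl
      rw [h5] at h3
      linear_combination h3
    rw [h4]
    push_cast
    ring

theorem not_dvd_of_dvd {p q : ℕ} (hp : p.Prime) (hq : q.Prime) (hpq : p ≠ q)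
    (hno : ∀ g : G, orderOf g ≠ p * q) {g : G} (hg : q ∣ orderOf g) : ¬ p ∣ orderOf g := by
  intro h
  obtain ⟨h', hh⟩ := BlockInter.exists_orderOf_mul hp hq hpq h hg
  exact hno h' hh

omit [Finite G] in
/-- `k ≡ 1` modulo `|G| / p` acts trivially on the `p`-regular elements -/
theorem pow_eq_self_of_not_dvd {p : ℕ} [hp : Fact p.Prime] (P : Sylow p G) (hP : Nat.card P = p) {k : ℕ}
    (hk1 : k ≡ 1 [MOD Nat.card G / p]) {g : G} (hg : ¬ p ∣ orderOf g) : g ^ k = g := by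
  have hdvd : p ∣ Nat.card G := by
    have := (P : Subgroup G).card_subgroup_dvd_card
    rwa [hP] at this
  have h1 : orderOf g ∣ Nat.card G / p := by
    obtain ⟨m, hm⟩ := hdvd
    have h2 := orderOf_dvd_natCard g
    rw [hm, Nat.mul_div_cancel_left m hp.out.pos]
    rw [hm] at h2
    exact (Nat.Coprime.dvd_of_dvd_mul_left ((Nat.Prime.coprime_iff_not_dvd hp.out).2 hg).symm h2)
  have h2 : g ^ k = g ^ 1 := pow_eq_pow_iff_modEq.2 (hk1.of_dvd h1)
  rw [h2, pow_one]

theorem modEq_card_div {p : ℕ} [hp : Fact p.Prime] (P : Sylow p G) (hP : Nat.card P = p) :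
    (Nat.card G / p).Coprime p := by
  have hdvd : p ∣ Nat.card G := by
    have := (P : Subgroup G).card_subgroup_dvd_card
    rwa [hP] at this
  obtain ⟨m, hm⟩ := hdvd
  rw [hm, Nat.mul_div_cancel_left m hp.out.pos, Nat.coprime_comm, Nat.Prime.coprime_iff_not_dvd hp.out]
  rintro ⟨l, rfl⟩
  have h1 : p ^ 2 ∣ Nat.card G := ⟨l, by rw [hm]; ring⟩
  have h2 := P.pow_dvd_card_of_pow_dvd_card h1
  rw [hP] at h2
  have h3 := Nat.le_of_dvd hp.out.pos h2
  have h4 := hp.out.one_lt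
  nlinarith

/-- for every `j` prime to `p` there is `k ≡ j mod p`, `k ≡ 1 mod |G| / p` -/
theorem exists_lift {p : ℕ} [hp : Fact p.Prime] (P : Sylow p G) (hP : Nat.card P = p) {j : ℕ} (hj : j.Coprime p) :
    ∃ k : ℕ, k.Coprime (Nat.card G) ∧ k ≡ j [MOD p] ∧ k ≡ 1 [MOD Nat.card G / p] := by
  have hcop := modEq_card_div P hP
  obtain ⟨k, hk1, hk2⟩ := Nat.chineseRemainder hcop 1 j
  refine ⟨k, ?_, hk2, hk1⟩
  have hdvd : p ∣ Nat.card G := by
    have := (P : Subgroup G).card_subgroup_dvd_card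
    rwa [hP] at this
  have h1 : Nat.card G = Nat.card G / p * p := (Nat.div_mul_cancel hdvd).symm
  rw [h1]
  refine Nat.Coprime.mul_right ?_ ?_
  · have := hk1.gcd_eq
    rw [Nat.gcd_one_left] at this
    exact this
  · have := hk2.gcd_eq
    rw [Nat.Coprime, this]
    exact hj

/-- **A common member of the two blocks is non-exceptional for `p` or for `q`.** -/
theorem ne_or_ne {p q : ℕ} [hp : Fact p.Prime] [hq : Fact q.Prime] (hpq : p ≠ q) (hp2 : p ≠ 2) (hq2 : q ≠ 2)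
    (P : Sylow p G) (hP : Nat.card P = p) (Q : Sylow q G) (hQ : Nat.card Q = q) {M M' : Ideal AlgInt}
    (hM : IsPModular p M) (hM' : IsPModular q M') (hno : ∀ g : G, orderOf g ≠ p * q) {χ : IrrCharacter G}
    (hχ : χ ∈ principalBlock M G) (hχ' : χ ∈ principalBlock M' G) : NE p (χ : G → ℂ) ∨ NE q (χ : G → ℂ) := by
  by_contra hcon
  push Not at hcon
  obtain ⟨hn, hn'⟩ := hcon
  apply hn
  refine ne_of_forall_pow P hP hM hp2 hχ fun j hj x hx hx1 => ?_
  obtain ⟨k, hk, hkj, hk1⟩ := exists_lift P hP hj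
  -- the twist
  have hsing : ∀ g : G, q ∣ orderOf g → (tw k hk χ : G → ℂ) g = (χ : G → ℂ) g := by
    intro g hg
    rw [tw_apply, pow_eq_self_of_not_dvd P hP hk1 (not_dvd_of_dvd hp.out hq.out hpq hno hg)]
  have hn2 : ¬ NE q (tw k hk χ : G → ℂ) := by
    rintro ⟨ε, hε, h⟩
    exact hn' ⟨ε, hε, fun g hg => by rw [← hsing g hg]; exact h g hg⟩
  obtain ⟨-, -, -, -, -, -, hreg⟩ := exc Q hQ hM' hq2 _ rfl hχ' hn'
  have heq : χ = tw k hk χ := by
    refine eq_of_eq_on Q hQ hM' hχ' (tw_mem hk hχ') (fun y hy hy1 => ?_) (hreg _ (tw_mem hk hχ') hn2)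
    exact (hsing y (BlockShared.dvd_orderOf hQ y hy hy1)).symm
  have h1 : (χ : G → ℂ) x = (tw k hk χ : G → ℂ) x := by rw [← heq]
  rw [h1, tw_apply]
  have h3 : orderOf x = p := CyclicOrtho.orderOf_eq P hP hx hx1
  have h4 : x ^ j = x ^ k := pow_eq_pow_iff_modEq.2 (by rw [h3]; exact hkj.symm)
  rw [h4]

/-- **The intersection lemma.** -/
theorem even_inter {p q : ℕ} [hp : Fact p.Prime] [hq : Fact q.Prime] (hpq : p ≠ q)
    (P : Sylow p G) (hP : Nat.card P = p) (Q : Sylow q G) (hQ : Nat.card Q = q) {M M' : Ideal AlgInt}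
    (hM : IsPModular p M) (hM' : IsPModular q M') (hno : ∀ g : G, orderOf g ≠ p * q)
    (hne : ∀ χ : IrrCharacter G, χ ∈ principalBlock M G → χ ∈ principalBlock M' G →
      NE p (χ : G → ℂ) ∧ NE q (χ : G → ℂ)) :
    Even (Nat.card {χ : IrrCharacter G // χ ∈ principalBlock M G ∧ χ ∈ principalBlock M' G}) := by
  classical
  have := finite_irr (G := G)
  have := Fintype.ofFinite (IrrCharacter G)
  have hB : IsPBlock M (principalBlock M G) := ⟨⟨fun _ => 1, isIrr_one⟩, rfl⟩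
  have hB' : IsPBlock M' (principalBlock M' G) := ⟨⟨fun _ => 1, isIrr_one⟩, rfl⟩
  obtain ⟨x, hx⟩ : ∃ x : G, p ∣ orderOf x := by
    have hdvd : p ∣ Nat.card G := by
      have := (P : Subgroup G).card_subgroup_dvd_card
      rwa [hP] at this
    obtain ⟨x, hx⟩ := exists_prime_orderOf_dvd_card' p hdvd
    exact ⟨x, by rw [hx]⟩
  obtain ⟨y, hy⟩ : ∃ y : G, q ∣ orderOf y := by
    have hdvd : q ∣ Nat.card G := by
      have := (Q : Subgroup G).card_subgroup_dvd_card
      rwa [hQ] at this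
    obtain ⟨x, hx⟩ := exists_prime_orderOf_dvd_card' q hdvd
    exact ⟨x, by rw [hx]⟩
  have h1 := BlockInter.sum_inter_eq_zero hpq hM hM' hB hB' hno hx hy
  let F : Finset (IrrCharacter G) := Finset.univ.filter fun χ => χ ∈ principalBlock M G ∧ χ ∈ principalBlock M' G
  have h2 : ∀ χ ∈ F, ∃ ε : ℤ, Odd ε ∧ (χ : G → ℂ) x * conj ((χ : G → ℂ) y) = ε := by
    intro χ hχ
    obtain ⟨-, hχ1, hχ2⟩ := Finset.mem_filter.1 hχ
    obtain ⟨⟨ε, hε, h3⟩, ⟨ε', hε', h4⟩⟩ := hne χ hχ1 hχ2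
    refine ⟨ε * ε', ?_, ?_⟩
    · rcases hε with h | h <;> rcases hε' with h' | h' <;> rw [h, h'] <;> decide
    · rw [h3 x hx, h4 y hy, map_intCast]
      push_cast
      ring
  choose! ε hε1 hε2 using h2
  have h3 : ∑ χ ∈ F, ε χ = 0 := by
    have h4 : ((∑ χ ∈ F, ε χ : ℤ) : ℂ) = 0 := by
      rw [finsum_mem_eq_finite_toFinset_sum _ (Set.toFinite _)] at h1
      rw [← h1]
      push_cast
      refine Finset.sum_congr ?_ fun χ hχ => (hε2 χ ?_).symm
      · ext χ
        simp [F]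
      · simpa [F] using hχ
    exact_mod_cast h4
  have h5 : (∑ χ ∈ F, ε χ) % 2 = (F.card : ℤ) % 2 := by
    have h6 : ∀ s : Finset (IrrCharacter G), s ⊆ F → (∑ χ ∈ s, ε χ) % 2 = (s.card : ℤ) % 2 := by
      intro s
      induction s using Finset.induction_on with
      | empty => intro _; simp
      | insert a s ha ih =>
        intro hs
        rw [Finset.sum_insert ha, Finset.card_insert_of_notMem ha]
        have h7 := ih fun b hb => hs (Finset.mem_insert_of_mem hb)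
        have h8 := hε1 a (hs (Finset.mem_insert_self _ _))
        obtain ⟨m, hm⟩ := h8
        push_cast
        omega
    exact h6 F le_rfl
  rw [h3] at h5
  have h6 : Nat.card {χ : IrrCharacter G // χ ∈ principalBlock M G ∧ χ ∈ principalBlock M' G} = F.card := by
    rw [Nat.card_eq_fintype_card, Fintype.card_subtype]
  rw [h6, Nat.even_iff]
  omega

end Cfsg.Agent.H602.B0R
end

-- part: H602/B0R/Eng
section
prune_inst 0x20000000000008000000000000000000
set_option linter.all false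
open scoped Cfsg.Agent.FastGrp

/-!
# The engine: rational characters in the intersection of two principal blocks

* `core` : an odd set of irreducible characters, stable under the Galois group, on which the Galois group acts through
  a `2`-group, contains a rational character.
* `exists_rational_local` (front end B), `exists_rational_global` (front end A).
-/

set_option autoImplicit false

open Subgroup
open scoped ComplexConjugate

namespace Cfsg.Agent.H602.B0R

open Cfsg Cfsg.Agent.Characters.Core Cfsg.Agent.Blocks Cfsg.Agent.SmallSimple Cfsg.Agent.Characters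

universe u

variable {G : Type u} [Group G] [Finite G]

omit [Finite G] in
theorem pow_eq_of_modEq {g : G} {a b n : ℕ} (hn : orderOf g ∣ n) (h : a ≡ b [MOD n]) : g ^ a = g ^ b :=
  pow_eq_pow_iff_modEq.2 (h.of_dvd hn)

theorem val_coprime {n : ℕ} [NeZero n] (u : (ZMod n)ˣ) : (u : ZMod n).val.Coprime n := ZMod.val_coe_unit_coprime u

theorem val_mul_modEq {n : ℕ} [NeZero n] (u v : (ZMod n)ˣ) :
    ((u * v : (ZMod n)ˣ) : ZMod n).val ≡ (u : ZMod n).val * (v : ZMod n).val [MOD n] := by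
  rw [← ZMod.natCast_eq_natCast_iff]
  simp

theorem val_one_modEq {n : ℕ} [NeZero n] : ((1 : (ZMod n)ˣ) : ZMod n).val ≡ 1 [MOD n] := by
  rw [← ZMod.natCast_eq_natCast_iff]
  simp

theorem val_pow_modEq {n : ℕ} [NeZero n] (u : (ZMod n)ˣ) (m : ℕ) :
    ((u ^ m : (ZMod n)ˣ) : ZMod n).val ≡ (u : ZMod n).val ^ m [MOD n] := by
  rw [← ZMod.natCast_eq_natCast_iff]
  simp

theorem val_unitOfCoprime {n : ℕ} [NeZero n] {k : ℕ} (hk : k.Coprime n) :
    (ZMod.unitOfCoprime k hk : ZMod n).val ≡ k [MOD n] := by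
  rw [← ZMod.natCast_eq_natCast_iff]
  simp

theorem mem_of_pow_mem {A : Type*} [Group A] (S : Subgroup A) {a : A} {m n : ℕ} (h : m.Coprime n)
    (h1 : a ^ m ∈ S) (h2 : a ^ n ∈ S) : a ∈ S := by
  have h3 : (m : ℤ) * m.gcdA n + (n : ℤ) * m.gcdB n = 1 := by
    rw [← Nat.gcd_eq_gcd_ab, h]; rfl
  have h4 : a = (a ^ m) ^ (m.gcdA n) * (a ^ n) ^ (m.gcdB n) := by
    rw [← zpow_natCast a m, ← zpow_natCast a n, ← zpow_mul, ← zpow_mul, ← zpow_add, h3, zpow_one]
  rw [h4]
  exact S.mul_mem (S.zpow_mem h1 _) (S.zpow_mem h2 _)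

/-- **The core of the engine.** -/
theorem core (Y : Set (IrrCharacter G)) (hY : Odd (Nat.card Y))
    (hst : ∀ χ ∈ Y, ∀ (k : ℕ) (hk : k.Coprime (Nat.card G)), tw k hk χ ∈ Y)
    (hfix : ∀ χ ∈ Y, ∀ k : ℕ, k.Coprime (Nat.card G) →
      ∃ c : ℕ, ∀ g : G, (χ : G → ℂ) (g ^ (k ^ (2 ^ c))) = (χ : G → ℂ) g) :
    ∃ χ ∈ Y, ∀ k : ℕ, k.Coprime (Nat.card G) → ∀ g : G, (χ : G → ℂ) (g ^ k) = (χ : G → ℂ) g := by
  classical
  have := finite_irr (G := G)
  set n := Nat.card G with hn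
  have hn0 : NeZero n := ⟨Nat.card_pos.ne'⟩
  let act : MulAction (ZMod n)ˣ Y :=
    { smul := fun u χ => ⟨tw _ (val_coprime u) χ, hst χ χ.2 _ _⟩
      one_smul := fun χ => by
        apply Subtype.ext
        apply Subtype.ext
        funext g
        show (χ : G → ℂ) (g ^ ((1 : (ZMod n)ˣ) : ZMod n).val) = (χ : G → ℂ) g
        rw [pow_eq_of_modEq (orderOf_dvd_natCard g) val_one_modEq, pow_one]
      mul_smul := fun u v χ => by
        apply Subtype.ext
        apply Subtype.ext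
        funext g
        show (χ : G → ℂ) (g ^ ((u * v : (ZMod n)ˣ) : ZMod n).val) =
          (χ : G → ℂ) ((g ^ (u : ZMod n).val) ^ (v : ZMod n).val)
        rw [pow_eq_of_modEq (orderOf_dvd_natCard g) (val_mul_modEq u v), pow_mul] }
  have hsmul : ∀ (u : (ZMod n)ˣ) (χ : Y) (g : G),
      ((u • χ : Y) : G → ℂ) g = (χ : G → ℂ) (g ^ (u : ZMod n).val) := fun _ _ _ => rfl
  obtain ⟨T⟩ : Nonempty (Sylow 2 (ZMod n)ˣ) := inferInstance
  have hT := T.isPGroup'.card_modEq_card_fixedPoints (p := 2) Y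
  have hne : Nonempty (MulAction.fixedPoints T Y) := by
    rw [← not_isEmpty_iff]
    intro h
    have h0 : Nat.card (MulAction.fixedPoints T Y) = 0 := Nat.card_of_isEmpty
    rw [h0] at hT
    rw [Nat.odd_iff] at hY
    have h1 : Nat.card Y % 2 = 0 % 2 := hT
    omega
  obtain ⟨⟨χ, hχ⟩⟩ := hne
  let S : Subgroup (ZMod n)ˣ := MulAction.stabilizer (ZMod n)ˣ χ
  have hTS : (T : Subgroup (ZMod n)ˣ) ≤ S := by
    intro u hu
    rw [MulAction.mem_stabilizer_iff]
    exact hχ ⟨u, hu⟩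
  have hodd : Odd (T : Subgroup (ZMod n)ˣ).index := by
    rw [← Nat.not_even_iff_odd, even_iff_two_dvd]
    exact T.not_dvd_index
  refine ⟨χ, χ.2, fun k hk g => ?_⟩
  let u : (ZMod n)ˣ := ZMod.unitOfCoprime k hk
  have hu : (u : ZMod n).val ≡ k [MOD n] := val_unitOfCoprime hk
  have h1 : u ^ (T : Subgroup (ZMod n)ˣ).index ∈ S := hTS (Subgroup.pow_index_mem _ _)
  obtain ⟨c, hc⟩ := hfix χ χ.2 k hk
  have h2 : u ^ (2 ^ c) ∈ S := by
    rw [MulAction.mem_stabilizer_iff]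
    apply Subtype.ext
    apply Subtype.ext
    funext g
    rw [hsmul, ← hc g]
    rw [pow_eq_of_modEq (orderOf_dvd_natCard g) ((val_pow_modEq u (2 ^ c)).trans (hu.pow _))]
  have h3 : u ∈ S := by
    refine mem_of_pow_mem S (m := 2 ^ c) ?_ h2 h1
    exact Nat.Coprime.pow_left _ (Nat.coprime_two_left.2 hodd)
  have h4 := congrArg (fun χ : Y => (χ : G → ℂ) g) (MulAction.mem_stabilizer_iff.1 h3)
  simp only [hsmul] at h4
  rw [← h4]
  exact congrArg _ (pow_eq_of_modEq (orderOf_dvd_natCard g) hu.symm)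

/-- the values are integers -/
theorem exists_int {χ : IrrCharacter G}
    (h : ∀ k : ℕ, k.Coprime (Nat.card G) → ∀ g : G, (χ : G → ℂ) (g ^ k) = (χ : G → ℂ) g) (g : G) :
    ∃ z : ℤ, (χ : G → ℂ) g = z :=
  GaloisBasic.exists_int_of_rat (isIrr_isCharacter χ.2) g
    ((GaloisBasic.exists_rat_iff (isIrr_isCharacter χ.2) g).2 fun m hm => h m hm g)

/-- from one element at a time to all elements -/
theorem fix_of_local {χ : IrrCharacter G}
    (h : ∀ g : G, ∀ k : ℕ, k.Coprime (Nat.card G) → ∃ c : ℕ, (χ : G → ℂ) (g ^ (k ^ (2 ^ c))) = (χ : G → ℂ) g)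
    {k : ℕ} (hk : k.Coprime (Nat.card G)) :
    ∃ c : ℕ, ∀ g : G, (χ : G → ℂ) (g ^ (k ^ (2 ^ c))) = (χ : G → ℂ) g := by
  classical
  have := Fintype.ofFinite G
  choose c hc using fun g => h g k hk
  refine ⟨∑ g, c g, fun g => ?_⟩
  obtain ⟨d, hd⟩ : ∃ d, ∑ g, c g = c g + d :=
    Nat.exists_eq_add_of_le (Finset.single_le_sum (f := c) (fun _ _ => Nat.zero_le _) (Finset.mem_univ g))
  obtain ⟨σ, hσ⟩ := GaloisBasic.exists_ringEquiv_of_coprime (G := G) (m := k ^ 2 ^ c g) (hk.pow_left _)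
  have h1 : ∀ j : ℕ, (χ : G → ℂ) (g ^ ((k ^ 2 ^ c g) ^ j)) = (χ : G → ℂ) g := by
    intro j
    induction j with
    | zero => rw [pow_zero, pow_one]
    | succ j ih =>
      rw [pow_succ, pow_mul, ← hσ _ (isIrr_isCharacter χ.2), ih, hσ _ (isIrr_isCharacter χ.2), hc g]
  rw [hd, pow_add, pow_mul]
  exact h1 _

/-- the local stabilizer -/
def locStab (χ : IrrCharacter G) (g : G) : Subgroup (ZMod (orderOf g))ˣ where
  carrier := {u | (χ : G → ℂ) (g ^ (u : ZMod (orderOf g)).val) = (χ : G → ℂ) g}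
  one_mem' := by
    have : NeZero (orderOf g) := ⟨(orderOf_pos g).ne'⟩
    show (χ : G → ℂ) (g ^ ((1 : (ZMod (orderOf g))ˣ) : ZMod (orderOf g)).val) = (χ : G → ℂ) g
    rw [pow_eq_of_modEq dvd_rfl val_one_modEq, pow_one]
  mul_mem' := by
    have : NeZero (orderOf g) := ⟨(orderOf_pos g).ne'⟩
    have : NeZero (Nat.card G) := ⟨Nat.card_pos.ne'⟩
    intro u v hu hv
    obtain ⟨w, hw⟩ := ZMod.unitsMap_surjective (orderOf_dvd_natCard g) v
    have hw' : (w : ZMod (Nat.card G)).val ≡ (v : ZMod (orderOf g)).val [MOD orderOf g] := by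
      rw [← ZMod.natCast_eq_natCast_iff, ← hw]
      simp [ZMod.unitsMap]
    obtain ⟨σ, hσ⟩ := GaloisBasic.exists_ringEquiv_of_coprime (G := G) (val_coprime w)
    have h1 : ∀ h : G, orderOf h ∣ orderOf g →
        σ ((χ : G → ℂ) h) = (χ : G → ℂ) (h ^ (v : ZMod (orderOf g)).val) := by
      intro h hh
      rw [hσ _ (isIrr_isCharacter χ.2), pow_eq_of_modEq hh hw']
    show (χ : G → ℂ) (g ^ ((u * v : (ZMod (orderOf g))ˣ) : ZMod (orderOf g)).val) = (χ : G → ℂ) g
    rw [pow_eq_of_modEq dvd_rfl (val_mul_modEq u v), pow_mul, ← h1 _ (orderOf_pow_dvd _)]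
    have hu' : (χ : G → ℂ) (g ^ (u : ZMod (orderOf g)).val) = (χ : G → ℂ) g := hu
    rw [hu', h1 _ dvd_rfl]
    exact hv
  inv_mem' := by
    have : NeZero (orderOf g) := ⟨(orderOf_pos g).ne'⟩
    have : NeZero (Nat.card G) := ⟨Nat.card_pos.ne'⟩
    intro u hu
    obtain ⟨w, hw⟩ := ZMod.unitsMap_surjective (orderOf_dvd_natCard g) u⁻¹
    have hw' : (w : ZMod (Nat.card G)).val ≡ ((u⁻¹ : (ZMod (orderOf g))ˣ) : ZMod (orderOf g)).val [MOD orderOf g] := by
      rw [← ZMod.natCast_eq_natCast_iff, ← hw]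
      simp [ZMod.unitsMap]
    obtain ⟨σ, hσ⟩ := GaloisBasic.exists_ringEquiv_of_coprime (G := G) (val_coprime w)
    have h1 : ∀ h : G, orderOf h ∣ orderOf g →
        σ ((χ : G → ℂ) h) = (χ : G → ℂ) (h ^ ((u⁻¹ : (ZMod (orderOf g))ˣ) : ZMod (orderOf g)).val) := by
      intro h hh
      rw [hσ _ (isIrr_isCharacter χ.2), pow_eq_of_modEq hh hw']
    show (χ : G → ℂ) (g ^ ((u⁻¹ : (ZMod (orderOf g))ˣ) : ZMod (orderOf g)).val) = (χ : G → ℂ) g
    have hu' : (χ : G → ℂ) (g ^ (u : ZMod (orderOf g)).val) = (χ : G → ℂ) g := hu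
    have h2 := h1 (g ^ (u : ZMod (orderOf g)).val) (orderOf_pow_dvd _)
    rw [hu', h1 _ dvd_rfl, ← pow_mul, ← pow_eq_of_modEq dvd_rfl (val_mul_modEq u u⁻¹), mul_inv_cancel,
      pow_eq_of_modEq dvd_rfl val_one_modEq, pow_one] at h2
    exact h2

theorem mem_locStab {χ : IrrCharacter G} {g : G} {u : (ZMod (orderOf g))ˣ} :
    u ∈ locStab χ g ↔ (χ : G → ℂ) (g ^ (u : ZMod (orderOf g)).val) = (χ : G → ℂ) g := Iff.rfl

/-- the global stabilizer -/
def gloStab (χ : IrrCharacter G) : Subgroup (ZMod (Nat.card G))ˣ where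
  carrier := {u | ∀ g : G, (χ : G → ℂ) (g ^ (u : ZMod (Nat.card G)).val) = (χ : G → ℂ) g}
  one_mem' := by
    have : NeZero (Nat.card G) := ⟨Nat.card_pos.ne'⟩
    intro g
    rw [pow_eq_of_modEq (orderOf_dvd_natCard g) val_one_modEq, pow_one]
  mul_mem' := by
    have : NeZero (Nat.card G) := ⟨Nat.card_pos.ne'⟩
    intro u v hu hv g
    rw [pow_eq_of_modEq (orderOf_dvd_natCard g) (val_mul_modEq u v), pow_mul, hv, hu]
  inv_mem' := by
    have : NeZero (Nat.card G) := ⟨Nat.card_pos.ne'⟩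
    intro u hu g
    rw [← hu (g ^ ((u⁻¹ : (ZMod (Nat.card G))ˣ) : ZMod (Nat.card G)).val), ← pow_mul,
      ← pow_eq_of_modEq (orderOf_dvd_natCard g) (val_mul_modEq u⁻¹ u), inv_mul_cancel,
      pow_eq_of_modEq (orderOf_dvd_natCard g) val_one_modEq, pow_one]

theorem mem_gloStab {χ : IrrCharacter G} {u : (ZMod (Nat.card G))ˣ} :
    u ∈ gloStab χ ↔ ∀ g : G, (χ : G → ℂ) (g ^ (u : ZMod (Nat.card G)).val) = (χ : G → ℂ) g := Iff.rfl

/-! ### The two blocks -/

/-- the Frobenius lemma (F), as a hypothesis: non-exceptional characters of the principal `p`-block are fixed by the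
Frobenius of `p` -/
def Frob (p : ℕ) (M : Ideal AlgInt) (G : Type u) [Group G] : Prop :=
  ∀ χ : IrrCharacter G, χ ∈ principalBlock M G → NE p (χ : G → ℂ) → ∀ k : ℕ, k.Coprime (Nat.card G) →
    k ≡ p [MOD Nat.card G / p] → ∀ g : G, (χ : G → ℂ) (g ^ k) = (χ : G → ℂ) g

omit [Finite G] in
theorem dvd_card {p : ℕ} (P : Sylow p G) (hP : Nat.card P = p) : p ∣ Nat.card G := by
  have := (P : Subgroup G).card_subgroup_dvd_card
  rwa [hP] at this

/-- no exceptional characters if `e = p - 1` -/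
theorem ne_of_e_eq {p : ℕ} [hp : Fact p.Prime] (P : Sylow p G) (hP : Nat.card P = p) {M : Ideal AlgInt}
    (hM : IsPModular p M) (hp2 : p ≠ 2)
    (he : (centralizer (P : Set G)).relIndex (normalizer (P : Set G)) = p - 1)
    {χ : IrrCharacter G} (hχ : χ ∈ principalBlock M G) : NE p (χ : G → ℂ) := by
  classical
  by_contra hn
  obtain ⟨d, S, hd, hS, hS1, hv, -⟩ := exc P hP hM hp2 _ rfl hχ hn
  have := PrimeDual.finite_dual hp.out hP
  have := Fintype.ofFinite (P →* ℂˣ)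
  have hcard := PrimeDual.card_dual hp.out hP
  have hS' : S = Finset.univ.erase 1 := by
    apply Finset.eq_of_subset_of_card_le
    · intro l hl
      exact Finset.mem_erase.2 ⟨fun h => hS1 (h ▸ hl), Finset.mem_univ _⟩
    · rw [Finset.card_erase_of_mem (Finset.mem_univ _), Finset.card_univ, ← Nat.card_eq_fintype_card, hcard, hS, he]
  apply hn
  refine ne_of_const P hP hM hχ (ε := -d) (by rcases hd with h | h <;> rw [h] <;> norm_num) fun x hx hx1 => ?_
  have hx1' : (⟨x, hx⟩ : P) ≠ 1 := fun h => hx1 (congrArg Subtype.val h)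
  have h2 := hv ⟨x, hx⟩ hx1'
  have h3 := PrimeDual.sum_dual_eq_zero hp.out hP hx1'
  rw [← Finset.add_sum_erase _ _ (Finset.mem_univ (1 : P →* ℂˣ))] at h3
  rw [hS'] at h2
  show (χ : G → ℂ) ((⟨x, hx⟩ : P) : G) = _
  rw [h2]
  have h4 : ∑ l ∈ Finset.univ.erase (1 : P →* ℂˣ), ((l ⟨x, hx⟩ : ℂˣ) : ℂ) = -1 := by
    have h5 : (((1 : P →* ℂˣ) ⟨x, hx⟩ : ℂˣ) : ℂ) = 1 := rfl
    rw [h5] at h3
    linear_combination h3
  rw [h4]
  push_cast
  ring

/-- `k ≡ q` modulo `|G| / q`, prime to `|G|` -/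
theorem exists_frob_lift {q : ℕ} [hq : Fact q.Prime] (Q : Sylow q G) (hQ : Nat.card Q = q) :
    ∃ k : ℕ, k.Coprime (Nat.card G) ∧ k ≡ q [MOD Nat.card G / q] := by
  have hcop := modEq_card_div Q hQ
  obtain ⟨k, hk1, hk2⟩ := Nat.chineseRemainder hcop q 1
  refine ⟨k, ?_, hk1⟩
  have h1 : Nat.card G = Nat.card G / q * q := (Nat.div_mul_cancel (dvd_card Q hQ)).symm
  rw [h1]
  refine Nat.Coprime.mul_right ?_ ?_
  · have := hk1.gcd_eq
    rw [Nat.Coprime, this]
    exact hcop.symm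
  · have := hk2.gcd_eq
    rw [Nat.gcd_one_left] at this
    exact this

/-- **The data of a pair of primes.** -/
structure Pair (G : Type u) [Group G] [Finite G] (p q : ℕ) (M M' : Ideal AlgInt) : Prop where
  hp : p.Prime
  hq : q.Prime
  hpq : p ≠ q
  hp2 : p ≠ 2
  hq2 : q ≠ 2
  hM : IsPModular p M
  hM' : IsPModular q M'
  sylp : ∀ P : Sylow p G, Nat.card P = p ∧
    ((centralizer (P : Set G)).relIndex (normalizer (P : Set G)) = p - 1 ∨
      ¬ q ^ (centralizer (P : Set G)).relIndex (normalizer (P : Set G)) ≡ 1 [MOD p])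
  sylq : ∀ Q : Sylow q G, Nat.card Q = q ∧
    ((centralizer (Q : Set G)).relIndex (normalizer (Q : Set G)) = q - 1 ∨
      ¬ p ^ (centralizer (Q : Set G)).relIndex (normalizer (Q : Set G)) ≡ 1 [MOD q])
  hno : ∀ g : G, orderOf g ≠ p * q
  frobp : Frob p M G
  frobq : Frob q M' G

/-- the other order -/
theorem Pair.symm {p q : ℕ} {M M' : Ideal AlgInt} (h : Pair G p q M M') : Pair G q p M' M where
  hp := h.hq
  hq := h.hp
  hpq := h.hpq.symm
  hp2 := h.hq2
  hq2 := h.hp2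
  hM := h.hM'
  hM' := h.hM
  sylp := h.sylq
  sylq := h.sylp
  hno := fun g hg => h.hno g (by rw [hg, mul_comm])
  frobp := h.frobq
  frobq := h.frobp

theorem Pair.ne_left {p q : ℕ} {M M' : Ideal AlgInt} (h : Pair G p q M M') {χ : IrrCharacter G}
    (hχ : χ ∈ principalBlock M G) (hχ' : χ ∈ principalBlock M' G) (hn : NE q (χ : G → ℂ)) : NE p (χ : G → ℂ) := by
  have := Fact.mk h.hp
  have := Fact.mk h.hq
  obtain ⟨P⟩ : Nonempty (Sylow p G) := inferInstance
  obtain ⟨Q⟩ : Nonempty (Sylow q G) := inferInstance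
  obtain ⟨hP, he⟩ := h.sylp P
  obtain ⟨hQ, -⟩ := h.sylq Q
  rcases he with he | he
  · exact ne_of_e_eq P hP h.hM h.hp2 he hχ
  · by_contra hcon
    apply he
    refine pow_card_modEq P hP h.hM h.hp2 _ rfl hχ hcon ((Nat.coprime_primes h.hq h.hp).2 h.hpq.symm)
      fun x hx hx1 => ?_
    obtain ⟨k, hk, hkq⟩ := exists_frob_lift Q hQ
    have h3 : orderOf x = p := CyclicOrtho.orderOf_eq P hP hx hx1
    have h4 : p ∣ Nat.card G / q * q := by
      rw [Nat.div_mul_cancel (dvd_card Q hQ)]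
      exact dvd_card P hP
    have h5 : orderOf x ∣ Nat.card G / q := by
      rw [h3]
      exact Nat.Coprime.dvd_of_dvd_mul_right ((Nat.coprime_primes h.hp h.hq).2 h.hpq) h4
    rw [pow_eq_of_modEq h5 hkq.symm]
    exact h.frobq χ hχ' hn k hk hkq x

theorem Pair.ne_both {p q : ℕ} {M M' : Ideal AlgInt} (h : Pair G p q M M') {χ : IrrCharacter G}
    (hχ : χ ∈ principalBlock M G) (hχ' : χ ∈ principalBlock M' G) : NE p (χ : G → ℂ) ∧ NE q (χ : G → ℂ) := by
  have := Fact.mk h.hp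
  have := Fact.mk h.hq
  obtain ⟨P⟩ : Nonempty (Sylow p G) := inferInstance
  obtain ⟨Q⟩ : Nonempty (Sylow q G) := inferInstance
  rcases ne_or_ne h.hpq h.hp2 h.hq2 P (h.sylp P).1 Q (h.sylq Q).1 h.hM h.hM' h.hno hχ hχ' with h1 | h1
  · exact ⟨h1, h.symm.ne_left hχ' hχ h1⟩
  · exact ⟨h.ne_left hχ hχ' h1, h1⟩

/-- the nontrivial common members of the two principal blocks -/
def Com (M M' : Ideal AlgInt) (G : Type u) [Group G] : Set (IrrCharacter G) :=
  {χ | χ ∈ principalBlock M G ∧ χ ∈ principalBlock M' G ∧ (χ : G → ℂ) ≠ fun _ => 1}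

theorem Pair.odd {p q : ℕ} {M M' : Ideal AlgInt} (h : Pair G p q M M') : Odd (Nat.card (Com M M' G)) := by
  classical
  have := Fact.mk h.hp
  have := Fact.mk h.hq
  have := finite_irr (G := G)
  have := Fintype.ofFinite (IrrCharacter G)
  have := Local.isPrime_of_isPModular h.hM
  have := Local.isPrime_of_isPModular h.hM'
  obtain ⟨P⟩ : Nonempty (Sylow p G) := inferInstance
  obtain ⟨Q⟩ : Nonempty (Sylow q G) := inferInstance
  have h1 := even_inter h.hpq P (h.sylp P).1 Q (h.sylq Q).1 h.hM h.hM' h.hno fun χ h1 h2 => h.ne_both h1 h2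
  have e1 : Nat.card {χ : IrrCharacter G // χ ∈ principalBlock M G ∧ χ ∈ principalBlock M' G} =
      (Finset.univ.filter fun χ : IrrCharacter G => χ ∈ principalBlock M G ∧ χ ∈ principalBlock M' G).card := by
    rw [Nat.card_eq_fintype_card, Fintype.card_subtype]
  have e2 : Nat.card (Com M M' G) =
      ((Finset.univ.filter fun χ : IrrCharacter G => χ ∈ principalBlock M G ∧ χ ∈ principalBlock M' G).erase
        (⟨fun _ => (1 : ℂ), isIrr_one⟩ : IrrCharacter G)).card := by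
    have : Fintype (Com M M' G) := Fintype.ofFinite _
    rw [Nat.card_eq_fintype_card, ← Set.toFinset_card]
    congr 1
    ext χ
    rw [Set.mem_toFinset, Finset.mem_erase, Finset.mem_filter]
    constructor
    · rintro ⟨h2, h3, h4⟩
      exact ⟨fun h => h4 (congrArg Subtype.val h), Finset.mem_univ _, h2, h3⟩
    · rintro ⟨h2, -, h3, h4⟩
      exact ⟨h3, h4, fun h => h2 (Subtype.ext h)⟩
  rw [e1] at h1
  rw [e2, Finset.card_erase_of_mem]
  · have h2 : 0 < (Finset.univ.filter fun χ : IrrCharacter G =>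
        χ ∈ principalBlock M G ∧ χ ∈ principalBlock M' G).card := by
      apply Finset.card_pos.2
      refine ⟨(⟨fun _ => (1 : ℂ), isIrr_one⟩ : IrrCharacter G), Finset.mem_filter.2 ⟨Finset.mem_univ _, ?_, ?_⟩⟩
      · exact PrincipalSection.one_mem_principalBlock
      · exact PrincipalSection.one_mem_principalBlock
    rw [Nat.even_iff] at h1
    rw [Nat.odd_iff]
    omega
  · refine Finset.mem_filter.2 ⟨Finset.mem_univ _, ?_, ?_⟩
    · exact PrincipalSection.one_mem_principalBlock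
    · exact PrincipalSection.one_mem_principalBlock

/-- the conclusion of the engine -/
def Out (p q : ℕ) (M M' : Ideal AlgInt) (G : Type u) [Group G] : Prop :=
  ∃ χ : IrrCharacter G, χ ∈ principalBlock M G ∧ χ ∈ principalBlock M' G ∧ (χ : G → ℂ) ≠ (fun _ => 1) ∧
    NE p (χ : G → ℂ) ∧ NE q (χ : G → ℂ) ∧
    (∀ k : ℕ, k.Coprime (Nat.card G) → ∀ g : G, (χ : G → ℂ) (g ^ k) = (χ : G → ℂ) g) ∧
    ∀ g : G, ∃ z : ℤ, (χ : G → ℂ) g = z

theorem Pair.out_of_fix {p q : ℕ} {M M' : Ideal AlgInt} (h : Pair G p q M M')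
    (hfix : ∀ χ ∈ Com M M' G, ∀ k : ℕ, k.Coprime (Nat.card G) →
      ∃ c : ℕ, ∀ g : G, (χ : G → ℂ) (g ^ (k ^ (2 ^ c))) = (χ : G → ℂ) g) : Out p q M M' G := by
  obtain ⟨χ, ⟨h1, h2, h3⟩, h4⟩ := core (Com M M' G) h.odd (fun χ hχ k hk =>
    ⟨tw_mem hk hχ.1, tw_mem hk hχ.2.1, fun h1 => hχ.2.2 (by
      funext g
      obtain ⟨m, hm⟩ := exists_pow_eq_self_of_coprime (x := g) (n := k)
        (hk.coprime_dvd_right (orderOf_dvd_natCard g))
      have h2 := congrFun h1 (g ^ m)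
      rw [tw_apply, ← pow_mul, mul_comm, pow_mul, hm] at h2
      exact h2)⟩) hfix
  obtain ⟨h5, h6⟩ := h.ne_both h1 h2
  exact ⟨χ, h1, h2, h3, h5, h6, h4, exists_int h4⟩

end Cfsg.Agent.H602.B0R
end

-- part: H602/B0R/Front
section
set_option linter.all false
open scoped Cfsg.Agent.FastGrp

/-!
# Front ends of the engine

* `Gen0 o p q` : the subgroup of `(ZMod o)ˣ` generated by `p`, `q` and the kernels modulo the `p'`-part and the
  `q'`-part has `2`-power index.
* `Pair.out_of_gen0` (front end B): `∀ g : G, Gen0 (orderOf g) p q` suffices.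
* `Gen n p q L` (form of helper823), `Pair.out_of_gen` (front end A): `Gen (Nat.card G) p q L` and `TR G r` for `r ∈ L`.
-/

set_option autoImplicit false

open Subgroup
open scoped ComplexConjugate

namespace Cfsg.Agent.H602.B0R

open Cfsg Cfsg.Agent.Characters.Core Cfsg.Agent.Blocks Cfsg.Agent.SmallSimple Cfsg.Agent.Characters

universe u

/-- `p`, `q` and the two inertia groups generate a subgroup of `2`-power index of `(ZMod o)ˣ` -/
def Gen0 (o p q : ℕ) : Prop :=
  ∀ H : Subgroup (ZMod o)ˣ,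
    (∀ u : (ZMod o)ˣ, (u : ZMod o).val ≡ 1 [MOD o / p ^ o.factorization p] → u ∈ H) →
    (∀ u : (ZMod o)ˣ, (u : ZMod o).val ≡ p [MOD o / p ^ o.factorization p] → u ∈ H) →
    (∀ u : (ZMod o)ˣ, (u : ZMod o).val ≡ 1 [MOD o / q ^ o.factorization q] → u ∈ H) →
    (∀ u : (ZMod o)ˣ, (u : ZMod o).val ≡ q [MOD o / q ^ o.factorization q] → u ∈ H) →
    ∀ u : (ZMod o)ˣ, ∃ c : ℕ, u ^ (2 ^ c) ∈ H

/-- the form of helper494: the odd part of the inertia group at `r` fixes every class -/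
def TR (G : Type u) [Group G] (r : ℕ) : Prop :=
  ∀ x y : G, Commute x y → (∃ a : ℕ, orderOf x = r ^ a) → ¬ r ∣ orderOf y → ∀ k : ℕ, Nat.Coprime k r →
    (∃ m : ℕ, Odd m ∧ k ^ m ≡ 1 [MOD orderOf x]) → IsConj (x ^ k * y) (x * y)

/-- the form of helper823 -/
def Gen (n p q : ℕ) (L : List ℕ) : Prop :=
  ∀ H : Subgroup (ZMod n)ˣ,
    (∀ u : (ZMod n)ˣ, (u : ZMod n).val ≡ 1 [MOD n / p] → u ∈ H) →
    (∀ u : (ZMod n)ˣ, (u : ZMod n).val ≡ p [MOD n / p] → u ∈ H) →
    (∀ u : (ZMod n)ˣ, (u : ZMod n).val ≡ 1 [MOD n / q] → u ∈ H) →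
    (∀ u : (ZMod n)ˣ, (u : ZMod n).val ≡ q [MOD n / q] → u ∈ H) →
    (∀ r ∈ L, ∀ u : (ZMod n)ˣ, (u : ZMod n).val ≡ 1 [MOD n / r ^ n.factorization r] → Odd (orderOf u) → u ∈ H) →
    ∀ u : (ZMod n)ˣ, ∃ c : ℕ, u ^ (2 ^ c) ∈ H

variable {G : Type u} [Group G] [Finite G]

omit [Finite G] in
theorem NE.pow_eq {p : ℕ} {χ : IrrCharacter G} (hn : NE p (χ : G → ℂ)) {g : G} (hg : p ∣ orderOf g) {k : ℕ}
    (hk : k.Coprime (orderOf g)) : (χ : G → ℂ) (g ^ k) = (χ : G → ℂ) g := by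
  obtain ⟨ε, -, h⟩ := hn
  rw [h _ hg, h (g ^ k) (by rwa [Nat.Coprime.orderOf_pow hk.symm])]

/-- the inertia and Frobenius conditions at one element -/
theorem local_cond {p : ℕ} [hp : Fact p.Prime] (P : Sylow p G) (hP : Nat.card P = p) {M : Ideal AlgInt}
    (hfrob : Frob p M G) {χ : IrrCharacter G} (hχ : χ ∈ principalBlock M G) (hn : NE p (χ : G → ℂ)) (g : G) :
    (∀ u : (ZMod (orderOf g))ˣ, (u : ZMod (orderOf g)).val ≡ 1 [MOD orderOf g / p ^ (orderOf g).factorization p] →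
      u ∈ locStab χ g) ∧
    (∀ u : (ZMod (orderOf g))ˣ, (u : ZMod (orderOf g)).val ≡ p [MOD orderOf g / p ^ (orderOf g).factorization p] →
      u ∈ locStab χ g) := by
  have : NeZero (orderOf g) := ⟨(orderOf_pos g).ne'⟩
  by_cases hg : p ∣ orderOf g
  · exact ⟨fun u _ => hn.pow_eq hg (val_coprime u), fun u _ => hn.pow_eq hg (val_coprime u)⟩
  · rw [Nat.factorization_eq_zero_of_not_dvd hg, pow_zero, Nat.div_one]
    constructor
    · intro u hu
      rw [mem_locStab, pow_eq_of_modEq dvd_rfl hu, pow_one]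
    · intro u hu
      rw [mem_locStab, pow_eq_of_modEq dvd_rfl hu]
      obtain ⟨k, hk, hkp⟩ := exists_frob_lift P hP
      have h1 : orderOf g ∣ Nat.card G / p := by
        have h2 : orderOf g ∣ Nat.card G / p * p := by
          rw [Nat.div_mul_cancel (dvd_card P hP)]
          exact orderOf_dvd_natCard g
        exact Nat.Coprime.dvd_of_dvd_mul_right ((Nat.Prime.coprime_iff_not_dvd hp.out).2 hg).symm h2
      rw [pow_eq_of_modEq h1 hkp.symm]
      exact hfrob χ hχ hn k hk hkp g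

/-- **Front end B.** -/
theorem Pair.out_of_gen0 {p q : ℕ} {M M' : Ideal AlgInt} (h : Pair G p q M M')
    (hg : ∀ g : G, Gen0 (orderOf g) p q) : Out p q M M' G := by
  have := Fact.mk h.hp
  have := Fact.mk h.hq
  obtain ⟨P⟩ : Nonempty (Sylow p G) := inferInstance
  obtain ⟨Q⟩ : Nonempty (Sylow q G) := inferInstance
  refine h.out_of_fix fun χ hχ k hk => fix_of_local (fun g k hk => ?_) hk
  have : NeZero (orderOf g) := ⟨(orderOf_pos g).ne'⟩
  obtain ⟨hn, hn'⟩ := h.ne_both hχ.1 hχ.2.1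
  obtain ⟨h1, h2⟩ := local_cond P (h.sylp P).1 h.frobp hχ.1 hn g
  obtain ⟨h3, h4⟩ := local_cond Q (h.sylq Q).1 h.frobq hχ.2.1 hn' g
  have hk' : k.Coprime (orderOf g) := hk.coprime_dvd_right (orderOf_dvd_natCard g)
  obtain ⟨c, hc⟩ := hg g (locStab χ g) h1 h2 h3 h4 (ZMod.unitOfCoprime k hk')
  refine ⟨c, ?_⟩
  rw [mem_locStab] at hc
  rw [← hc]
  exact congrArg _ (pow_eq_of_modEq dvd_rfl ((val_pow_modEq _ _).trans ((val_unitOfCoprime hk').pow _)).symm)

theorem dvd_div_of_not_dvd {r n o : ℕ} (hr : r.Prime) (ho : ¬ r ∣ o) (hn : o ∣ n) :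
    o ∣ n / r ^ n.factorization r := by
  have h1 : n / r ^ n.factorization r * r ^ n.factorization r = n := Nat.div_mul_cancel (Nat.ordProj_dvd n r)
  have h2 : o ∣ n / r ^ n.factorization r * r ^ n.factorization r := by rwa [h1]
  exact Nat.Coprime.dvd_of_dvd_mul_right
    ((Nat.Coprime.pow_left _ ((Nat.Prime.coprime_iff_not_dvd hr).2 ho)).symm) h2

/-- the `T_r` condition -/
theorem tr_cond {r : ℕ} (hr : r.Prime) (hT : TR G r) (χ : IrrCharacter G) {u : (ZMod (Nat.card G))ˣ}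
    (hu : (u : ZMod (Nat.card G)).val ≡ 1 [MOD Nat.card G / r ^ (Nat.card G).factorization r])
    (ho : Odd (orderOf u)) : u ∈ gloStab χ := by
  have := Fact.mk hr
  have : NeZero (Nat.card G) := ⟨Nat.card_pos.ne'⟩
  rw [mem_gloStab]
  intro g
  by_cases hrn : r ∣ Nat.card G
  · obtain ⟨x, y, rfl, hxy, hx, hy⟩ := PPart.exists_isPPart r g
    have hy1 : y ^ (u : ZMod (Nat.card G)).val = y := by
      rw [pow_eq_of_modEq (dvd_div_of_not_dvd hr hy (orderOf_dvd_natCard y)) hu, pow_one]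
    rw [hxy.mul_pow, hy1]
    refine apply_eq_of_isConj χ (hT x y hxy hx hy _ ((val_coprime u).coprime_dvd_right hrn) ⟨orderOf u, ho, ?_⟩)
    have h1 := val_pow_modEq u (orderOf u)
    rw [pow_orderOf_eq_one] at h1
    exact ((h1.symm.trans val_one_modEq).of_dvd (orderOf_dvd_natCard x))
  · rw [Nat.factorization_eq_zero_of_not_dvd hrn, pow_zero, Nat.div_one] at hu
    rw [pow_eq_of_modEq (orderOf_dvd_natCard g) hu, pow_one]

/-- **Front end A.** -/
theorem Pair.out_of_gen {p q : ℕ} {M M' : Ideal AlgInt} (h : Pair G p q M M') {L : List ℕ}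
    (hL : ∀ r ∈ L, r.Prime ∧ TR G r) (hg : Gen (Nat.card G) p q L) : Out p q M M' G := by
  have := Fact.mk h.hp
  have := Fact.mk h.hq
  obtain ⟨P⟩ : Nonempty (Sylow p G) := inferInstance
  obtain ⟨Q⟩ : Nonempty (Sylow q G) := inferInstance
  refine h.out_of_fix fun χ hχ k hk => ?_
  have : NeZero (Nat.card G) := ⟨Nat.card_pos.ne'⟩
  obtain ⟨hn, hn'⟩ := h.ne_both hχ.1 hχ.2.1
  have key : ∀ {p : ℕ} [Fact p.Prime] (P : Sylow p G) (hP : Nat.card P = p) {M : Ideal AlgInt}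
      (hfrob : Frob p M G) (hχ : χ ∈ principalBlock M G) (hn : NE p (χ : G → ℂ)),
      (∀ u : (ZMod (Nat.card G))ˣ, (u : ZMod (Nat.card G)).val ≡ 1 [MOD Nat.card G / p] → u ∈ gloStab χ) ∧
      (∀ u : (ZMod (Nat.card G))ˣ, (u : ZMod (Nat.card G)).val ≡ p [MOD Nat.card G / p] → u ∈ gloStab χ) := by
    intro p _ P hP M hfrob hχ hn
    refine ⟨fun u hu g => ?_, fun u hu g => hfrob χ hχ hn _ (val_coprime u) hu g⟩
    by_cases hg : p ∣ orderOf g
    · exact hn.pow_eq hg ((val_coprime u).coprime_dvd_right (orderOf_dvd_natCard g))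
    · rw [pow_eq_self_of_not_dvd P hP hu hg]
  obtain ⟨h1, h2⟩ := key P (h.sylp P).1 h.frobp hχ.1 hn
  obtain ⟨h3, h4⟩ := key Q (h.sylq Q).1 h.frobq hχ.2.1 hn'
  obtain ⟨c, hc⟩ := hg (gloStab χ) h1 h2 h3 h4 (fun r hr u hu ho => tr_cond (hL r hr).1 (hL r hr).2 χ hu ho)
    (ZMod.unitOfCoprime k hk)
  refine ⟨c, fun g => ?_⟩
  have h5 := mem_gloStab.1 hc g
  rw [← h5]
  exact congrArg _ (pow_eq_of_modEq (orderOf_dvd_natCard g)
    ((val_pow_modEq _ _).trans ((val_unitOfCoprime hk).pow _)).symm)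

end Cfsg.Agent.H602.B0R
end

-- part: H823/B0R/Arith
section
prune_inst 0xe0002201648000000004000002000081210000000000000000260004010c800280000800420000000020200008000000000000200000000000000400000000000880800020400000400007000000000000000000020000000000000000000000000000000
set_option linter.all false
open scoped Cfsg.Agent.FastGrp

-- part: H823/B0R/Local
section
/-!
# The arithmetic of the engine: local lemmas

Two-power index from surjectivity of the odd power maps, products of commutative groups, cyclic groups, and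
`r`-th powers in `(ZMod (s ^ a))ˣ`.
-/

set_option autoImplicit false

namespace Cfsg.Agent.H823.B0R

/-- If for every odd prime `r` every element is an `r`-th power modulo `H`, then `A / H` is a `2`-group. -/
theorem two_power_of_odd {A : Type*} [CommGroup A] [Finite A] (H : Subgroup A)
    (h : ∀ r : ℕ, r.Prime → r ≠ 2 → ∀ u : A, ∃ x ∈ H, ∃ v : A, u = x * v ^ r) (u : A) :
    ∃ c : ℕ, u ^ (2 ^ c) ∈ H := by
  classical
  have hinj : ∀ r : ℕ, r.Prime → r ≠ 2 → ∀ x : A ⧸ H, x ^ r = 1 → x = 1 := by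
    intro r hr h2
    have hs : Function.Surjective (fun x : A ⧸ H => x ^ r) := by
      intro x
      induction x using QuotientGroup.induction_on with
      | H a =>
        obtain ⟨y, hy, v, e⟩ := h r hr h2 a
        refine ⟨(v : A ⧸ H), ?_⟩
        show ((v : A ⧸ H)) ^ r = (a : A ⧸ H)
        rw [e, QuotientGroup.mk_mul, (QuotientGroup.eq_one_iff y).2 hy, one_mul, QuotientGroup.mk_pow]
    have hi := (Finite.injective_iff_surjective).2 hs
    intro x hx
    exact hi (by simpa only [_root_.one_pow] using hx)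
  have hm : orderOf (u : A ⧸ H) ≠ 0 := (orderOf_pos _).ne'
  have h2 : orderOf (u : A ⧸ H) = 2 ^ (orderOf (u : A ⧸ H)).primeFactorsList.length := by
    refine Nat.eq_prime_pow_of_unique_prime_dvd hm ?_
    intro d hd hdm
    by_contra hd2
    have h1 : ((u : A ⧸ H) ^ (orderOf (u : A ⧸ H) / d)) ^ d = 1 := by
      rw [← pow_mul, Nat.div_mul_cancel hdm, pow_orderOf_eq_one]
    have h3 := hinj d hd hd2 _ h1
    have h4 := Nat.le_of_dvd (Nat.div_pos (Nat.le_of_dvd (Nat.pos_of_ne_zero hm) hdm) hd.pos)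
      (orderOf_dvd_of_pow_eq_one h3)
    exact absurd h4 (not_le.2 (Nat.div_lt_self (Nat.pos_of_ne_zero hm) hd.one_lt))
  refine ⟨(orderOf (u : A ⧸ H)).primeFactorsList.length, (QuotientGroup.eq_one_iff _).1 ?_⟩
  rw [QuotientGroup.mk_pow, ← h2, pow_orderOf_eq_one]

/-- Elements supported on treated coordinates. -/
theorem mem_of_treated {ι : Type*} [Fintype ι] [DecidableEq ι] {A : ι → Type*} [∀ i, CommGroup (A i)]
    (B : Subgroup (∀ i, A i)) (T : Set ι) (hT : ∀ t ∈ T, ∀ x : A t, Pi.mulSingle t x ∈ B)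
    (g : ∀ i, A i) (hg : ∀ i, i ∉ T → g i = 1) : g ∈ B := by
  rw [← Finset.univ_prod_mulSingle g]
  refine Subgroup.prod_mem B ?_
  intro i _
  by_cases hi : i ∈ T
  · exact hT i hi _
  · rw [hg i hi, Pi.mulSingle_one]
    exact B.one_mem

/-- The elimination step. -/
theorem step {ι : Type*} [Fintype ι] [DecidableEq ι] {A : ι → Type*} [∀ i, CommGroup (A i)]
    (B : Subgroup (∀ i, A i)) (r : ℕ) (hpow : ∀ g : (∀ i, A i), g ^ r ∈ B) (T : Set ι)
    (hT : ∀ t ∈ T, ∀ x : A t, Pi.mulSingle t x ∈ B) (s : ι) (h : ∀ i, A i) (hB : h ∈ B)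
    (h1 : ∀ i, i ∉ T → i ≠ s → ∃ y : A i, y ^ r = h i)
    (h2 : ∀ x : A s, ∃ (k : ℕ) (y : A s), x = (h s) ^ k * y ^ r) (x : A s) :
    Pi.mulSingle s x ∈ B := by
  classical
  have hy : ∀ i, ∃ y : A i, (i ∉ T → i ≠ s → y ^ r = h i) ∧ ((i ∈ T ∨ i = s) → y = 1) := by
    intro i
    by_cases hi : i ∈ T ∨ i = s
    · exact ⟨1, fun a b => absurd hi (by tauto), fun _ => rfl⟩
    · push Not at hi
      obtain ⟨y, hy⟩ := h1 i hi.1 hi.2
      exact ⟨y, fun _ _ => hy, fun a => absurd a (by tauto)⟩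
  choose w hw1 hw2 using hy
  have hw : h * (w ^ r)⁻¹ * (Pi.mulSingle s (h s))⁻¹ ∈ B := by
    refine mem_of_treated B T hT _ ?_
    intro i hi
    by_cases his : i = s
    · subst his
      simp [hw2 i (Or.inr rfl)]
    · simp [hw1 i hi his, Pi.mulSingle_eq_of_ne his]
  have hs : Pi.mulSingle s (h s) ∈ B := by
    have h3 := B.mul_mem (B.inv_mem hw) (B.mul_mem hB (B.inv_mem (hpow w)))
    have e : (h * (w ^ r)⁻¹ * (Pi.mulSingle s (h s))⁻¹)⁻¹ * (h * (w ^ r)⁻¹) =
        (Pi.mulSingle s (h s) : ∀ i, A i) := by group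
    rwa [e] at h3
  obtain ⟨k, y', e⟩ := h2 x
  have e2 : (Pi.mulSingle s x : ∀ i, A i) =
      (Pi.mulSingle s (h s)) ^ k * (Pi.mulSingle s y') ^ r := by
    rw [e]
    ext i
    by_cases his : i = s
    · subst his
      simp
    · simp [Pi.mulSingle_eq_of_ne his]
  rw [e2]
  exact B.mul_mem (B.pow_mem hs k) (hpow _)

theorem cyc_pow {C : Type*} [CommGroup C] [Finite C] [IsCyclic C] {r N : ℕ}
    (hN : Nat.card C = r * N) (x : C) (hx : x ^ N = 1) : ∃ y : C, y ^ r = x := by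
  obtain ⟨g, hg⟩ := IsCyclic.exists_generator (α := C)
  have hcard : orderOf g = r * N := by
    rw [← hN, orderOf_eq_card_of_forall_mem_zpowers hg]
  have hN0 : 0 < r * N := by rw [← hN]; exact Nat.card_pos
  have hN1 : 0 < N := by
    rcases Nat.eq_zero_or_pos N with h0 | h0
    · simp [h0] at hN0
    · exact h0
  obtain ⟨k, hk⟩ := (mem_powers_iff_mem_zpowers).2 (hg x)
  simp only at hk
  subst hk
  rw [← pow_mul] at hx
  have h1 := orderOf_dvd_of_pow_eq_one hx
  rw [hcard] at h1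
  obtain ⟨m, hm⟩ := Nat.dvd_of_mul_dvd_mul_right hN1 h1
  exact ⟨g ^ m, by rw [← pow_mul, mul_comm m r, ← hm]⟩

theorem cyc_gen {C : Type*} [CommGroup C] [Finite C] [IsCyclic C] {r N : ℕ} (hr : r.Prime)
    (hN : Nat.card C = r * N) (x : C) (hx : x ^ N ≠ 1) (u : C) :
    ∃ (k : ℕ) (y : C), u = x ^ k * y ^ r := by
  obtain ⟨g, hg⟩ := IsCyclic.exists_generator (α := C)
  have hcard : orderOf g = r * N := by
    rw [← hN, orderOf_eq_card_of_forall_mem_zpowers hg]
  obtain ⟨a, ha⟩ := (mem_powers_iff_mem_zpowers).2 (hg x)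
  obtain ⟨b, hb⟩ := (mem_powers_iff_mem_zpowers).2 (hg u)
  simp only at ha hb
  subst ha
  subst hb
  have hra : ¬ r ∣ a := by
    rintro ⟨m, rfl⟩
    apply hx
    rw [← pow_mul, show r * m * N = orderOf g * m by rw [hcard]; ring, pow_mul, pow_orderOf_eq_one,
      one_pow]
  have hcop : Nat.Coprime a r := (Nat.Coprime.symm ((Nat.Prime.coprime_iff_not_dvd hr).2 hra))
  obtain ⟨c, hc⟩ := Nat.exists_mul_mod_eq_one_of_coprime hcop hr.one_lt
  -- a * c % r = 1
  have h1 : (r : ℤ) ∣ (b : ℤ) - (a : ℤ) * ((c * b : ℕ) : ℤ) := by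
    have h2 : (r : ℤ) ∣ 1 - ((a * c : ℕ) : ℤ) := by
      have h3 : (a * c : ℕ) = 1 + r * (a * c / r) := by
        conv_lhs => rw [← Nat.mod_add_div (a * c) r, hc.2]
      rw [h3]
      push_cast
      exact ⟨-(((a * c / r : ℕ) : ℤ)), by push_cast; ring⟩
    obtain ⟨t, ht⟩ := h2
    exact ⟨t * b, by push_cast at ht ⊢; linear_combination (b : ℤ) * ht⟩
  obtain ⟨t, ht⟩ := h1
  refine ⟨c * b, g ^ t, ?_⟩
  have h2 : (g ^ b : C) = g ^ (b : ℤ) := (zpow_natCast g b).symm
  have h3 : ((g ^ a) ^ (c * b) : C) = g ^ ((a : ℤ) * ((c * b : ℕ) : ℤ)) := by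
    rw [← pow_mul, ← zpow_natCast]
    push_cast
    rfl
  have h4 : ((g ^ t) ^ r : C) = g ^ (t * r : ℤ) := by
    rw [zpow_mul, zpow_natCast]
  rw [h2, h3, h4, ← zpow_add]
  congr 1
  linear_combination ht

theorem cop_pow {C : Type*} [CommGroup C] [Finite C] {r : ℕ} (h : (Nat.card C).Coprime r) (x : C) :
    ∃ y : C, y ^ r = x :=
  (powCoprime h).surjective x

end Cfsg.Agent.H823.B0R
end

-- part: H823/B0R/Pow
section
/-!
# `r`-th powers in `(ZMod (s ^ a))ˣ`
-/

set_option autoImplicit false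

namespace Cfsg.Agent.H823.B0R

/-- `x` is an `r`-th power modulo the powers of the prime `s` (`r ∣ s - 1` or `r = s`). -/
def isPow (r s x : ℕ) : Bool :=
  if s = r then x ^ (r - 1) % (r * r) == 1 else x ^ ((s - 1) / r) % s == 1

theorem isCyclic_units {s a : ℕ} (hs : s.Prime) (hs2 : s ≠ 2) : IsCyclic (ZMod (s ^ a))ˣ :=
  ZMod.isCyclic_units_of_prime_pow s hs hs2 a

theorem unit_pow_eq_one_iff {m : ℕ} (u : (ZMod m)ˣ) (x N : ℕ) (hu : (u : ZMod m) = (x : ZMod m)) :
    u ^ N = 1 ↔ (m : ℤ) ∣ (x : ℤ) ^ N - 1 := by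
  rw [← Units.val_inj, Units.val_pow_eq_pow_val, hu, Units.val_one, ← sub_eq_zero]
  have h := ZMod.intCast_zmod_eq_zero_iff_dvd ((x : ℤ) ^ N - 1) m
  rw [← h]
  push_cast
  rfl

theorem mod_eq_one_iff {x m : ℕ} (hm : 1 < m) : (x % m = 1) ↔ (m : ℤ) ∣ (x : ℤ) - 1 := by
  constructor
  · intro h
    have h1 : (x : ℤ) = 1 + m * (x / m : ℕ) := by
      have := Nat.mod_add_div x m
      rw [h] at this
      exact_mod_cast this.symm
    rw [h1]
    exact ⟨((x / m : ℕ) : ℤ), by ring⟩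
  · intro h
    have h1 : (x : ℤ) ≡ ((1 : ℕ) : ℤ) [ZMOD (m : ℤ)] := by
      exact (Int.modEq_iff_dvd.2 (by
        have := (dvd_neg (a := (m : ℤ)) (b := (x : ℤ) - 1)).2 h
        rwa [neg_sub] at this))
    have h2 : x ≡ 1 [MOD m] := (Int.natCast_modEq_iff).1 h1
    have h3 : x % m = 1 % m := h2
    rw [h3, Nat.mod_eq_of_lt hm]

/-- The test at `s ≠ r`. -/
theorem test_ne {s a x : ℕ} (hs : s.Prime) (ha : 0 < a) (u : (ZMod (s ^ a))ˣ)
    (hu : (u : ZMod (s ^ a)) = (x : ZMod (s ^ a))) (m : ℕ) :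
    u ^ (s ^ (a - 1) * m) = 1 ↔ x ^ m % s = 1 := by
  have : Fact s.Prime := ⟨hs⟩
  rw [unit_pow_eq_one_iff u x _ hu, mod_eq_one_iff hs.one_lt]
  push_cast
  constructor
  · intro h
    have h1 : (s : ℤ) ∣ (x : ℤ) ^ (s ^ (a - 1) * m) - 1 :=
      (dvd_pow_self (s : ℤ) ha.ne').trans h
    rw [← ZMod.intCast_zmod_eq_zero_iff_dvd] at h1 ⊢
    push_cast at h1 ⊢
    rw [mul_comm, pow_mul, ZMod.pow_card_pow] at h1
    exact h1
  · intro h
    have h1 := dvd_sub_pow_of_dvd_sub (R := ℤ) (p := s) (a := (x : ℤ) ^ m) (b := 1) (by exact_mod_cast h) (a - 1)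
    rw [Nat.sub_add_cancel ha, one_pow, ← pow_mul, mul_comm m] at h1
    exact h1

theorem test_eq {r a x : ℕ} (hr : r.Prime) (hr2 : r ≠ 2) (ha : 2 ≤ a) (u : (ZMod (r ^ a))ˣ)
    (hu : (u : ZMod (r ^ a)) = (x : ZMod (r ^ a))) :
    u ^ (r ^ (a - 2) * (r - 1)) = 1 ↔ x ^ (r - 1) % (r * r) = 1 := by
  have : Fact r.Prime := ⟨hr⟩
  have hodd : Odd r := hr.odd_of_ne_two hr2
  have hrr : 1 < r * r := by nlinarith only [hr.one_lt]
  rw [unit_pow_eq_one_iff u x _ hu, mod_eq_one_iff hrr]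
  -- `r ∤ x`
  have hx : ¬ (r : ℤ) ∣ (x : ℤ) := by
    intro h
    have h0 : (x : ZMod r) = 0 := by
      have := (ZMod.intCast_zmod_eq_zero_iff_dvd (x : ℤ) r).2 h
      exact_mod_cast this
    have h1 : IsUnit ((x : ZMod r)) := by
      have h2 : IsUnit (ZMod.castHom (dvd_pow_self r (by omega : a ≠ 0)) (ZMod r) (u : ZMod (r ^ a))) :=
        (Units.isUnit u).map _
      rw [hu] at h2
      simpa only [_root_.isUnit_iff_ne_zero, _root_.ne_eq, _root_.map_natCast] using h2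
    rw [h0] at h1
    exact (not_isUnit_zero h1)
  have hy1 : (r : ℤ) ∣ (x : ℤ) ^ (r - 1) - 1 := by
    rw [← ZMod.intCast_zmod_eq_zero_iff_dvd]
    push_cast
    rw [ZMod.pow_card_sub_one_eq_one, sub_self]
    intro h0
    exact hx ((ZMod.intCast_zmod_eq_zero_iff_dvd (x : ℤ) r).1 (by exact_mod_cast h0))
  have hy2 : ¬ (r : ℤ) ∣ (x : ℤ) ^ (r - 1) := by
    intro h
    exact hx ((Nat.prime_iff_prime_int.1 hr).dvd_of_dvd_pow h)
  have hlte := Int.emultiplicity_pow_sub_pow hr hodd (x := (x : ℤ) ^ (r - 1)) (y := 1)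
    hy1 hy2 (r ^ (a - 2))
  rw [one_pow, ← pow_mul, mul_comm (r - 1)] at hlte
  have hpp : emultiplicity r (r ^ (a - 2)) = ((a - 2 : ℕ) : ℕ∞) := by
    rw [emultiplicity_pow_self hr.ne_zero (Nat.prime_iff.1 hr).not_isUnit]
  rw [hpp] at hlte
  have e1 : (((r ^ a : ℕ) : ℤ)) = (r : ℤ) ^ a := by push_cast; rfl
  have e2 : (((r * r : ℕ) : ℤ)) = (r : ℤ) ^ 2 := by push_cast; ring
  rw [e1, e2, pow_dvd_iff_le_emultiplicity, hlte]
  rw [pow_dvd_iff_le_emultiplicity]
  obtain ⟨b, rfl⟩ : ∃ b, a = b + 2 := ⟨a - 2, by omega⟩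
  rw [show b + 2 - 2 = b by omega]
  have e3 : ((b + 2 : ℕ) : ℕ∞) = ((2 : ℕ) : ℕ∞) + ((b : ℕ) : ℕ∞) := by
    rw [← Nat.cast_add, add_comm]
  rw [e3]
  constructor
  · intro h
    exact (ENat.add_le_add_iff_right (ENat.natCast_ne_top _)).1 h
  · intro h
    exact add_le_add_left h _

theorem card_units {s a : ℕ} (hs : s.Prime) (ha : 0 < a) :
    Nat.card (ZMod (s ^ a))ˣ = s ^ (a - 1) * (s - 1) := by
  have : NeZero (s ^ a) := ⟨pow_ne_zero _ hs.ne_zero⟩
  rw [Nat.card_eq_fintype_card, ZMod.card_units_eq_totient, Nat.totient_prime_pow hs ha]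

/-- `s` is active for `r` in `ZMod (s ^ a)`. -/
def act (r s a : ℕ) : Prop := (s = r ∧ 2 ≤ a) ∨ (s ≠ r ∧ r ∣ s - 1)

theorem pow_of_not_act {s a r : ℕ} (hs : s.Prime) (ha : 0 < a) (hr : r.Prime) (h : ¬ act r s a)
    (u : (ZMod (s ^ a))ˣ) : ∃ y, y ^ r = u := by
  refine cop_pow ?_ u
  rw [card_units hs ha]
  refine Nat.Coprime.symm ((Nat.Prime.coprime_iff_not_dvd hr).2 ?_)
  intro hd
  rcases (Nat.Prime.dvd_mul hr).1 hd with h1 | h1
  · have h2 := hr.dvd_of_dvd_pow h1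
    have h3 := (Nat.prime_dvd_prime_iff_eq hr hs).1 h2
    apply h
    left
    refine ⟨h3.symm, ?_⟩
    by_contra h4
    have : a = 1 := by omega
    subst this
    simp at h1
    exact hr.one_lt.ne' h1
  · by_cases h2 : s = r
    · subst h2
      exact absurd (Nat.le_of_dvd (by have := hs.two_le; omega) h1) (by have := hs.two_le; omega)
    · exact h (Or.inr ⟨h2, h1⟩)

theorem pow_of_isPow {s a r x : ℕ} (hs : s.Prime) (hs2 : s ≠ 2) (ha : 0 < a) (hr : r.Prime)
    (hr2 : r ≠ 2) (u : (ZMod (s ^ a))ˣ) (hu : (u : ZMod (s ^ a)) = (x : ZMod (s ^ a)))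
    (hact : act r s a) (h : isPow r s x = true) : ∃ y, y ^ r = u := by
  have := isCyclic_units (a := a) hs hs2
  have : NeZero (s ^ a) := ⟨pow_ne_zero _ hs.ne_zero⟩
  rcases hact with ⟨h1, h2⟩ | ⟨h1, h2⟩
  · subst h1
    refine cyc_pow (N := s ^ (a - 2) * (s - 1)) ?_ u ((test_eq hs hs2 h2 u hu).2 ?_)
    · rw [card_units hs ha, ← mul_assoc, ← pow_succ', show a - 2 + 1 = a - 1 by omega]
    · simpa only [isPow, ↓ _root_.reduceIte, _root_.beq_iff_eq] using h
  · obtain ⟨m, hm⟩ := h2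
    refine cyc_pow (N := s ^ (a - 1) * m) ?_ u ((test_ne hs ha u hu m).2 ?_)
    · rw [card_units hs ha, hm]; ring
    · have : (s - 1) / r = m := by rw [hm, Nat.mul_div_cancel_left _ hr.pos]
      simpa [isPow, h1, this] using h

theorem gen_of_not_isPow {s a r x : ℕ} (hs : s.Prime) (hs2 : s ≠ 2) (ha : 0 < a) (hr : r.Prime)
    (hr2 : r ≠ 2) (u : (ZMod (s ^ a))ˣ) (hu : (u : ZMod (s ^ a)) = (x : ZMod (s ^ a)))
    (hact : act r s a) (h : isPow r s x = false) (v : (ZMod (s ^ a))ˣ) :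
    ∃ (k : ℕ) (y : (ZMod (s ^ a))ˣ), v = u ^ k * y ^ r := by
  have := isCyclic_units (a := a) hs hs2
  have : NeZero (s ^ a) := ⟨pow_ne_zero _ hs.ne_zero⟩
  rcases hact with ⟨h1, h2⟩ | ⟨h1, h2⟩
  · subst h1
    refine cyc_gen (N := s ^ (a - 2) * (s - 1)) hr ?_ u (fun h3 => ?_) v
    · rw [card_units hs ha, ← mul_assoc, ← pow_succ', show a - 2 + 1 = a - 1 by omega]
    · have := (test_eq hs hs2 h2 u hu).1 h3
      simp [isPow, this] at h
  · obtain ⟨m, hm⟩ := h2
    refine cyc_gen (N := s ^ (a - 1) * m) hr ?_ u (fun h3 => ?_) v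
    · rw [card_units hs ha, hm]; ring
    · have h4 := (test_ne hs ha u hu m).1 h3
      have : (s - 1) / r = m := by rw [hm, Nat.mul_div_cancel_left _ hr.pos]
      simp [isPow, h1, this, h4] at h

end Cfsg.Agent.H823.B0R
end

-- part: H823/B0R/Arith
section
/-!
# The arithmetic of the engine

`Gen n p q L`: the subgroup of `(ZMod n)ˣ` generated by the local units at `p`, at `q`, the odd parts of the
local units at the `r ∈ L`, and the Frobenius units `≡ p` away from `p`, `≡ q` away from `q`, has `2`-power index.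

`gen_of_check`: a kernel-checkable certificate.
-/

set_option autoImplicit false

namespace Cfsg.Agent.H823.B0R

/-- The arithmetic input of the engine. -/
def Gen (n p q : ℕ) (L : List ℕ) : Prop :=
  ∀ H : Subgroup (ZMod n)ˣ,
    (∀ u : (ZMod n)ˣ, (u : ZMod n).val ≡ 1 [MOD n / p] → u ∈ H) →
    (∀ u : (ZMod n)ˣ, (u : ZMod n).val ≡ p [MOD n / p] → u ∈ H) →
    (∀ u : (ZMod n)ˣ, (u : ZMod n).val ≡ 1 [MOD n / q] → u ∈ H) →
    (∀ u : (ZMod n)ˣ, (u : ZMod n).val ≡ q [MOD n / q] → u ∈ H) →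
    (∀ r ∈ L, ∀ u : (ZMod n)ˣ, (u : ZMod n).val ≡ 1 [MOD n / r ^ n.factorization r] →
      Odd (orderOf u) → u ∈ H) →
    ∀ u : (ZMod n)ˣ, ∃ c : ℕ, u ^ (2 ^ c) ∈ H

/-! ### The checker -/

/-- Naive primality. -/
def np (r : ℕ) : Bool := Nat.ble 2 r && (List.range r).all fun d => Nat.ble d 1 || !(r % d == 0)

theorem np_iff (r : ℕ) : np r = true ↔ r.Prime := by
  rw [np, Nat.prime_def_lt]
  simp only [Bool.and_eq_true, Nat.ble_eq, List.all_eq_true, List.mem_range, Bool.or_eq_true,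
    Bool.not_eq_true', beq_eq_false_iff_ne, ne_eq]
  constructor
  · rintro ⟨h1, h2⟩
    refine ⟨h1, fun m hm hd => ?_⟩
    rcases h2 m hm with h3 | h3
    · rcases Nat.eq_zero_or_pos m with h0 | h0
      · subst h0
        have := Nat.eq_zero_of_zero_dvd hd
        omega
      · omega
    · exact absurd (Nat.mod_eq_zero_of_dvd hd) h3
  · rintro ⟨h1, h2⟩
    refine ⟨h1, fun m hm => ?_⟩
    by_cases h3 : r % m = 0
    · left
      exact (h2 m hm (Nat.dvd_of_mod_eq_zero h3)).le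
    · right
      exact h3

/-- The primes which have to be eliminated for `r`. -/
def todo (n : ℕ) (PS L : List ℕ) (p q r : ℕ) : List ℕ :=
  PS.filter fun s => !(s == 2) && !(L.contains s) && !(s == p) && !(s == q) &&
    (if s = r then n % (s * s) == 0 else (s - 1) % r == 0)

/-- The elimination. -/
def run (p q r : ℕ) : List ℕ → List (ℕ × ℕ × ℕ) → Bool
  | td, [] => td.isEmpty
  | td, (s, i, j) :: rest =>
      td.contains s && !(isPow r s (p ^ i * q ^ j)) &&
        ((td.filter fun t => !(t == s)).all fun t => isPow r t (p ^ i * q ^ j)) &&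
        run p q r (td.filter fun t => !(t == s)) rest

/-- The certificate checker: `PS` contains all prime divisors of `n` (all `< 72`), `C` lists the
eliminations `(s, i, j)` for the relevant odd primes `r`. -/
def check (n p q : ℕ) (PS L : List ℕ) (C : List (ℕ × List (ℕ × ℕ × ℕ))) : Bool :=
  Nat.ble 1 n && PS.all np && (PS.prod ^ 64 % n == 0) && PS.all (fun s => Nat.ble s 71) &&
    np p && np q && !(p == q) && (n % p == 0) && !(n % (p * p) == 0) && (n % q == 0) &&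
    !(n % (q * q) == 0) &&
    (List.range 72).all fun r =>
      (Nat.ble r 2 || (todo n PS L p q r).isEmpty || !(np r) ||
        run p q r (todo n PS L p q r) ((C.lookup r).getD []))

section Sound

variable {n : ℕ}

/-- The coordinates. -/
abbrev Co (n : ℕ) (s : n.primeFactors) : Type := (ZMod ((s : ℕ) ^ n.factorization s))ˣ

theorem co_dvd (n : ℕ) (s : n.primeFactors) : (s : ℕ) ^ n.factorization s ∣ n :=
  Nat.ordProj_dvd n s

/-- The decomposition map. -/
noncomputable def Phi (n : ℕ) : (ZMod n)ˣ →* (∀ s : n.primeFactors, Co n s) :=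
  MonoidHom.pi fun s => ZMod.unitsMap (co_dvd n s)

theorem Phi_apply (u : (ZMod n)ˣ) (s : n.primeFactors) :
    Phi n u s = ZMod.unitsMap (co_dvd n s) u := rfl

theorem Phi_val (u : (ZMod n)ˣ) (s : n.primeFactors) :
    ((Phi n u s : Co n s) : ZMod ((s : ℕ) ^ n.factorization s)) = ((u : ZMod n).cast : ZMod _) := by
  rw [Phi_apply, ZMod.unitsMap_def, Units.coe_map]
  rfl

theorem equivPi_apply (hn : n ≠ 0) (x : ZMod n) (s : n.primeFactors) :
    ZMod.equivPi n hn x s = ZMod.castHom (co_dvd n s) _ x :=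
  RingHom.congr_fun (Subsingleton.elim
    ((Pi.evalRingHom (fun s : n.primeFactors => ZMod ((s : ℕ) ^ n.factorization s)) s).comp
      (ZMod.equivPi n hn).toRingHom) (ZMod.castHom (co_dvd n s) _)) x

theorem Phi_bijective (hn : n ≠ 0) : Function.Bijective (Phi n) := by
  constructor
  · intro u v h
    apply Units.ext
    apply (ZMod.equivPi n hn).injective
    funext s
    rw [equivPi_apply, equivPi_apply]
    have h1 := congrFun h s
    rw [Phi_apply, Phi_apply, ZMod.unitsMap_def] at h1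
    exact congrArg Units.val h1
  · intro x
    let e : (ZMod n)ˣ ≃* (∀ s : n.primeFactors, ZMod ((s : ℕ) ^ n.factorization s))ˣ :=
      Units.mapEquiv (ZMod.equivPi n hn).toMulEquiv
    refine ⟨e.symm (MulEquiv.piUnits.symm x), ?_⟩
    funext s
    apply Units.ext
    rw [Phi_apply, ZMod.unitsMap_def, Units.coe_map]
    have h1 := equivPi_apply hn ((e.symm (MulEquiv.piUnits.symm x) : (ZMod n)ˣ) : ZMod n) s
    have h2 : (ZMod.castHom (co_dvd n s) (ZMod ((s : ℕ) ^ n.factorization s)) :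
        ZMod n →* ZMod ((s : ℕ) ^ n.factorization s))
        ((e.symm (MulEquiv.piUnits.symm x) : (ZMod n)ˣ) : ZMod n) =
        ZMod.castHom (co_dvd n s) (ZMod ((s : ℕ) ^ n.factorization s))
          ((e.symm (MulEquiv.piUnits.symm x) : (ZMod n)ˣ) : ZMod n) := rfl
    rw [h2, ← h1]
    have h3 : ((e (e.symm (MulEquiv.piUnits.symm x)) :
        (∀ s : n.primeFactors, ZMod ((s : ℕ) ^ n.factorization s))ˣ) :
        ∀ s : n.primeFactors, ZMod ((s : ℕ) ^ n.factorization s)) s = (x s : ZMod _) := by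
      rw [MulEquiv.apply_symm_apply]
      rfl
    exact h3

/-- The value of `u` is `≡ k` modulo `m` as soon as it is so at all coordinates which matter. -/
theorem val_modEq (hn : n ≠ 0) (u : (ZMod n)ˣ) (k m : ℕ) (hm : m ∣ n)
    (h : ∀ s : n.primeFactors, (s : ℕ) ∣ m →
      ((Phi n u s : Co n s) : ZMod ((s : ℕ) ^ n.factorization s)) = (k : ZMod _)) :
    (u : ZMod n).val ≡ k [MOD m] := by
  have : NeZero n := ⟨hn⟩
  rw [← Int.natCast_modEq_iff, Int.modEq_iff_dvd]
  rcases eq_or_ne (((k : ℕ) : ℤ) - (((u : ZMod n).val : ℕ) : ℤ)) 0 with h0 | h0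
  · rw [h0]; exact dvd_zero _
  rw [← Int.dvd_natAbs, Int.natCast_dvd_natCast]
  rw [Nat.dvd_iff_prime_pow_dvd_dvd]
  intro s t hs hst
  rcases Nat.eq_zero_or_pos t with ht | ht
  · subst ht; simp
  have hsm : s ∣ m := (dvd_pow_self s ht.ne').trans hst
  have hsn : s ∈ n.primeFactors := Nat.mem_primeFactors.2 ⟨hs, hsm.trans hm, hn⟩
  have h1 := h ⟨s, hsn⟩ hsm
  rw [Phi_val] at h1
  have h2 : ((s ^ n.factorization s : ℕ) : ℤ) ∣ ((k : ℕ) : ℤ) - (((u : ZMod n).val : ℕ) : ℤ) := by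
    rw [← ZMod.intCast_zmod_eq_zero_iff_dvd]
    push_cast
    rw [sub_eq_zero, ← h1, ZMod.natCast_val]
  have h3 : (s ^ t : ℕ) ∣ s ^ n.factorization s :=
    pow_dvd_pow s ((hs.pow_dvd_iff_le_factorization hn).1 (hst.trans hm))
  rw [← Int.natCast_dvd_natCast, Int.dvd_natAbs]
  exact (Int.natCast_dvd_natCast.2 h3).trans h2

theorem mem_of_coprime {A : Type*} [CommGroup A] (B : Subgroup A) (g : A) {a b : ℕ}
    (hab : Nat.Coprime a b) (ha : g ^ a ∈ B) (hb : g ^ b ∈ B) : g ∈ B := by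
  have h1 := Nat.gcd_eq_gcd_ab a b
  rw [hab] at h1
  have h2 : g = (g ^ a) ^ (Nat.gcdA a b) * (g ^ b) ^ (Nat.gcdB a b) := by
    rw [← zpow_natCast, ← zpow_natCast, ← zpow_mul, ← zpow_mul, ← zpow_add, ← h1]
    simp
  rw [h2]
  exact B.mul_mem (B.zpow_mem ha _) (B.zpow_mem hb _)

/-- A Frobenius unit: `≡ p` away from `p` and `1` at `p`. -/
theorem exists_frob (hn : n ≠ 0) {p : ℕ} (hp : p.Prime) :
    ∃ u : (ZMod n)ˣ, ∀ s : n.primeFactors,
      ((s : ℕ) ≠ p → ((Phi n u s : Co n s) : ZMod ((s : ℕ) ^ n.factorization s)) = ((p : ℕ) : ZMod _)) := by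
  have hc : ∀ s : n.primeFactors, ∃ x : Co n s, (s : ℕ) ≠ p →
      (x : ZMod ((s : ℕ) ^ n.factorization s)) = ((p : ℕ) : ZMod _) := by
    intro s
    by_cases hs : (s : ℕ) = p
    · exact ⟨1, fun h => absurd hs h⟩
    · have hsp : (s : ℕ).Prime := Nat.prime_of_mem_primeFactors s.2
      have hco : p.Coprime ((s : ℕ) ^ n.factorization s) :=
        Nat.Coprime.pow_right _ ((Nat.coprime_primes hp hsp).2 (Ne.symm hs))
      exact ⟨ZMod.unitOfCoprime p hco, fun _ => ZMod.coe_unitOfCoprime p hco⟩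
  choose x hx using hc
  obtain ⟨u, hu⟩ := (Phi_bijective hn).2 x
  exact ⟨u, fun s hs => by rw [hu]; exact hx s hs⟩

/-- Soundness of the elimination. -/
theorem run_sound (hn : n ≠ 0) {p q r : ℕ} (hr : r.Prime) (hr2 : r ≠ 2)
    (B : Subgroup (∀ s : n.primeFactors, Co n s)) (hpow : ∀ g, g ^ r ∈ B) (up uq : (ZMod n)ˣ)
    (hup : Phi n up ∈ B) (huq : Phi n uq ∈ B)
    (hup1 : ∀ s : n.primeFactors,
      ((s : ℕ) ≠ p → ((Phi n up s : Co n s) : ZMod ((s : ℕ) ^ n.factorization s)) = ((p : ℕ) : ZMod _)))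
    (huq1 : ∀ s : n.primeFactors,
      ((s : ℕ) ≠ q → ((Phi n uq s : Co n s) : ZMod ((s : ℕ) ^ n.factorization s)) = ((q : ℕ) : ZMod _)))
    (steps : List (ℕ × ℕ × ℕ)) :
    ∀ td : List ℕ, run p q r td steps = true →
      (∀ s : n.primeFactors, (s : ℕ) ∉ td → ∀ x : Co n s, Pi.mulSingle s x ∈ B) →
      (∀ s : n.primeFactors, (s : ℕ) ∈ td →
        (s : ℕ) ≠ 2 ∧ (s : ℕ) ≠ p ∧ (s : ℕ) ≠ q ∧ act r s (n.factorization s)) →
      ∀ (s : n.primeFactors) (x : Co n s), Pi.mulSingle s x ∈ B := by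
  classical
  induction steps with
  | nil =>
    intro td h1 h2 _ s x
    rw [run, List.isEmpty_iff] at h1
    exact h2 s (by rw [h1]; exact List.not_mem_nil) x
  | cons a rest ih =>
    obtain ⟨s₀, i, j⟩ := a
    intro td h1 h2 h3
    rw [run] at h1
    simp only [Bool.and_eq_true, List.contains_eq_mem, decide_eq_true_eq, Bool.not_eq_true',
      List.all_eq_true, List.mem_filter, and_imp, beq_eq_false_iff_ne, ne_eq] at h1
    obtain ⟨⟨⟨h4, h5⟩, h6⟩, h7⟩ := h1
    refine ih _ h7 ?_ ?_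
    · intro s hs x
      by_cases hst : (s : ℕ) ∈ td
      · have hs0 : (s : ℕ) = s₀ := by
          by_contra hne
          exact hs (List.mem_filter.2 ⟨hst, by simp [hne]⟩)
        have hval : ∀ t : n.primeFactors, (t : ℕ) ≠ p → (t : ℕ) ≠ q →
            (((Phi n up t) ^ i * (Phi n uq t) ^ j : Co n t) :
              ZMod ((t : ℕ) ^ n.factorization t)) = ((p ^ i * q ^ j : ℕ) : ZMod _) := by
          intro t ht1 ht2
          rw [Units.val_mul, Units.val_pow_eq_pow_val, Units.val_pow_eq_pow_val, hup1 t ht1,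
            huq1 t ht2]
          push_cast
          rfl
        have hpos : ∀ t : n.primeFactors, 0 < n.factorization t := fun t =>
          (Nat.prime_of_mem_primeFactors t.2).factorization_pos_of_dvd hn
            (Nat.dvd_of_mem_primeFactors t.2)
        refine step B r hpow {t | (t : ℕ) ∉ td} (fun t ht => h2 t ht) s
          (fun t => (Phi n up t) ^ i * (Phi n uq t) ^ j)
          (B.mul_mem (B.pow_mem hup i) (B.pow_mem huq j)) ?_ ?_ x
        · intro t ht hts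
          have ht' : (t : ℕ) ∈ td := by simpa using ht
          obtain ⟨c1, c2, c3, c4⟩ := h3 t ht'
          exact pow_of_isPow (Nat.prime_of_mem_primeFactors t.2) c1 (hpos t) hr hr2 _
            (hval t c2 c3) c4 (h6 t ht' (fun e => hts (Subtype.ext (by rw [e, hs0]))))
        · intro y
          obtain ⟨c1, c2, c3, c4⟩ := h3 s hst
          exact gen_of_not_isPow (Nat.prime_of_mem_primeFactors s.2) c1 (hpos s) hr hr2 _
            (hval s c2 c3) c4 (by rw [hs0]; exact h5) y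
      · exact h2 s hst x
    · intro s hs
      exact h3 s (List.mem_filter.1 hs).1

/-- **Soundness of the certificate.** -/
theorem gen_of_check {n p q : ℕ} {PS L : List ℕ} {C : List (ℕ × List (ℕ × ℕ × ℕ))}
    (h : check n p q PS L C = true) : Gen n p q L := by
  classical
  simp only [check, Bool.and_eq_true, Nat.ble_eq, List.all_eq_true, beq_iff_eq, Bool.not_eq_true',
    beq_eq_false_iff_ne, ne_eq, List.mem_range, Bool.or_eq_true] at h
  obtain ⟨⟨⟨⟨⟨⟨⟨⟨⟨⟨⟨k1, k2⟩, k3⟩, k4⟩, k5⟩, k6⟩, k7⟩, k8⟩, k9⟩, k10⟩, k11⟩, k12⟩ := h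
  have hn : n ≠ 0 := by omega
  have hp : p.Prime := (np_iff p).1 k5
  have hq : q.Prime := (np_iff q).1 k6
  have hps : ∀ s : ℕ, s.Prime → s ∣ n → s ∈ PS := by
    intro s hs hsn
    have h1 : s ∣ PS.prod := hs.dvd_of_dvd_pow (hsn.trans (Nat.dvd_of_mod_eq_zero k3))
    obtain ⟨t, ht, hst⟩ := (Nat.Prime.prime hs).dvd_prod_iff.1 h1
    rwa [(Nat.prime_dvd_prime_iff_eq hs ((np_iff t).1 (k2 t ht))).1 hst]
  intro H hp1 hpF hq1 hqF hT
  have hne : NeZero n := ⟨hn⟩
  apply two_power_of_odd H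
  intro r hr hr2
  set B : Subgroup (∀ s : n.primeFactors, Co n s) := (H ⊔ (powMonoidHom r).range).map (Phi n) with hBdef
  have hBH : ∀ u ∈ H, Phi n u ∈ B := fun u hu =>
    Subgroup.mem_map_of_mem _ (Subgroup.mem_sup_left hu)
  have hpow : ∀ g, g ^ r ∈ B := by
    intro g
    obtain ⟨u, rfl⟩ := (Phi_bijective hn).2 g
    rw [← map_pow]
    exact Subgroup.mem_map_of_mem _ (Subgroup.mem_sup_right ⟨u, rfl⟩)
  suffices hB : ∀ s : n.primeFactors, ∀ x : Co n s, Pi.mulSingle s x ∈ B by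
    intro u
    have h1 : Phi n u ∈ B :=
      mem_of_treated B Set.univ (fun s _ => hB s) _ (fun i hi => absurd (Set.mem_univ i) hi)
    obtain ⟨v, hv, e⟩ := h1
    have e1 := (Phi_bijective hn).1 e
    rw [← e1]
    obtain ⟨y, hy, z, hz, e⟩ := Subgroup.mem_sup.1 hv
    obtain ⟨w, rfl⟩ := hz
    exact ⟨y, hy, w, e.symm⟩
  -- local units at a prime which divides `n` exactly once
  have hloc : ∀ (t : ℕ) (ht : t.Prime), n % t = 0 → n % (t * t) ≠ 0 →
      ∀ (s : n.primeFactors), (s : ℕ) ∣ n / t → (s : ℕ) ≠ t := by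
    intro t ht h1 h2 s h3 h4
    apply h2
    rw [h4] at h3
    exact Nat.mod_eq_zero_of_dvd ((Nat.dvd_div_iff_mul_dvd (Nat.dvd_of_mod_eq_zero h1)).1 h3)
  have hsingle : ∀ (t : ℕ) (ht : t.Prime), n % t = 0 → n % (t * t) ≠ 0 →
      (∀ u : (ZMod n)ˣ, (u : ZMod n).val ≡ 1 [MOD n / t] → u ∈ H) →
      ∀ s : n.primeFactors, (s : ℕ) = t → ∀ x : Co n s, Pi.mulSingle s x ∈ B := by
    intro t ht h1 h2 h3 s hs x
    obtain ⟨u, hu⟩ := (Phi_bijective hn).2 (Pi.mulSingle s x)
    rw [← hu]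
    refine hBH u (h3 u (val_modEq hn u 1 (n / t) (Nat.div_dvd_of_dvd (Nat.dvd_of_mod_eq_zero h1)) ?_))
    intro s' hs'
    have h4 : s' ≠ s := fun e => hloc t ht h1 h2 s' hs' (by rw [e, hs])
    rw [hu, Pi.mulSingle_eq_of_ne h4]
    simp
  have hfrob : ∀ (t : ℕ) (ht : t.Prime), n % t = 0 → n % (t * t) ≠ 0 →
      (∀ u : (ZMod n)ˣ, (u : ZMod n).val ≡ t [MOD n / t] → u ∈ H) →
      ∃ u : (ZMod n)ˣ, Phi n u ∈ B ∧ ∀ s : n.primeFactors, ((s : ℕ) ≠ t →
        ((Phi n u s : Co n s) : ZMod ((s : ℕ) ^ n.factorization s)) = ((t : ℕ) : ZMod _)) := by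
    intro t ht h1 h2 h3
    obtain ⟨u, hu⟩ := exists_frob hn ht
    refine ⟨u, hBH u (h3 u (val_modEq hn u t (n / t)
      (Nat.div_dvd_of_dvd (Nat.dvd_of_mod_eq_zero h1)) ?_)), hu⟩
    intro s' hs'
    exact hu s' (hloc t ht h1 h2 s' hs')
  -- the primes of `L`
  have hL : ∀ s : n.primeFactors, (s : ℕ) ∈ L → ∀ x : Co n s, Pi.mulSingle s x ∈ B := by
    intro s hs x
    have hsp : (s : ℕ).Prime := Nat.prime_of_mem_primeFactors s.2
    have hns : NeZero ((s : ℕ) ^ n.factorization s) := ⟨pow_ne_zero _ hsp.ne_zero⟩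
    have hcard : Nat.card (Co n s) ≠ 0 := Nat.card_pos.ne'
    obtain ⟨k, m, hm, hkm⟩ := Nat.exists_eq_two_pow_mul_odd hcard
    obtain ⟨u, hu⟩ := (Phi_bijective hn).2 (Pi.mulSingle s (x ^ (2 ^ k)))
    have hu1 : u ∈ H := by
      refine hT s hs u (val_modEq hn u 1 _ (Nat.ordCompl_dvd n s) ?_) ?_
      · intro s' hs'
        have h4 : s' ≠ s := by
          rintro rfl
          exact Nat.not_dvd_ordCompl hsp hn hs'
        rw [hu, Pi.mulSingle_eq_of_ne h4]
        simp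
      · have h5 : u ^ m = 1 := by
          apply (Phi_bijective hn).1
          rw [map_pow, hu, map_one, ← Pi.mulSingle_pow, ← pow_mul, ← hkm, pow_card_eq_one',
            Pi.mulSingle_one]
        exact hm.of_dvd_nat (orderOf_dvd_of_pow_eq_one h5)
    refine mem_of_coprime B _ (a := 2 ^ k) (b := r) ?_ ?_ (hpow _)
    · exact Nat.Coprime.pow_left _ ((Nat.coprime_primes Nat.prime_two hr).2 (Ne.symm hr2))
    · rw [← Pi.mulSingle_pow, ← hu]
      exact hBH u hu1
  -- inactive primes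
  have hina : ∀ s : n.primeFactors, ¬ act r s (n.factorization s) →
      ∀ x : Co n s, Pi.mulSingle s x ∈ B := by
    intro s hs x
    have hsp : (s : ℕ).Prime := Nat.prime_of_mem_primeFactors s.2
    obtain ⟨y, rfl⟩ := pow_of_not_act hsp
      (hsp.factorization_pos_of_dvd hn (Nat.dvd_of_mem_primeFactors s.2)) hr hs x
    rw [Pi.mulSingle_pow]
    exact hpow _
  obtain ⟨up, hup, hup1⟩ := hfrob p hp k8 k9 hpF
  obtain ⟨uq, huq, huq1⟩ := hfrob q hq k10 k11 hqF
  have hact : ∀ s : n.primeFactors,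
      (if (s : ℕ) = r then n % ((s : ℕ) * s) == 0 else ((s : ℕ) - 1) % r == 0) = true →
      act r s (n.factorization s) := by
    intro s hs
    by_cases h1 : (s : ℕ) = r
    · left
      refine ⟨h1, ?_⟩
      rw [if_pos h1, beq_iff_eq] at hs
      have h2 := Nat.dvd_of_mod_eq_zero hs
      rw [← pow_two] at h2
      exact ((Nat.prime_of_mem_primeFactors s.2).pow_dvd_iff_le_factorization hn).1 h2
    · right
      rw [if_neg h1, beq_iff_eq] at hs
      exact ⟨h1, Nat.dvd_of_mod_eq_zero hs⟩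
  have hact2 : ∀ s : n.primeFactors, act r s (n.factorization s) →
      (if (s : ℕ) = r then n % ((s : ℕ) * s) == 0 else ((s : ℕ) - 1) % r == 0) = true := by
    rintro s (⟨h1, h2⟩ | ⟨h1, h2⟩)
    · rw [if_pos h1, beq_iff_eq, ← pow_two]
      exact Nat.mod_eq_zero_of_dvd
        (((Nat.prime_of_mem_primeFactors s.2).pow_dvd_iff_le_factorization hn).2 h2)
    · rw [if_neg h1, beq_iff_eq]
      exact Nat.mod_eq_zero_of_dvd h2
  -- all primes outside the list `todo` are treated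
  have htd : ∀ s : n.primeFactors, (s : ℕ) ∉ todo n PS L p q r →
      ∀ x : Co n s, Pi.mulSingle s x ∈ B := by
    intro s hs
    have hsp : (s : ℕ).Prime := Nat.prime_of_mem_primeFactors s.2
    by_cases c1 : (s : ℕ) = p
    · exact hsingle p hp k8 k9 hp1 s c1
    by_cases c2 : (s : ℕ) = q
    · exact hsingle q hq k10 k11 hq1 s c2
    by_cases c3 : (s : ℕ) ∈ L
    · exact hL s c3
    by_cases c4 : act r s (n.factorization s)
    · exfalso
      apply hs
      rw [todo, List.mem_filter]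
      refine ⟨hps s hsp (Nat.dvd_of_mem_primeFactors s.2), ?_⟩
      have c5 : (s : ℕ) ≠ 2 := by
        intro e
        rcases c4 with ⟨h1, h2⟩ | ⟨h1, h2⟩
        · exact hr2 (by rw [← h1, e])
        · rw [e] at h2
          exact hr.one_lt.ne' (Nat.dvd_one.1 h2)
      have c6 := hact2 s c4
      simp [c1, c2, c3, c5, c6]
    · exact hina s c4
  have htd2 : ∀ s : n.primeFactors, (s : ℕ) ∈ todo n PS L p q r →
      (s : ℕ) ≠ 2 ∧ (s : ℕ) ≠ p ∧ (s : ℕ) ≠ q ∧ act r s (n.factorization s) := by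
    intro s hs
    rw [todo, List.mem_filter] at hs
    obtain ⟨_, h2⟩ := hs
    rw [Bool.and_eq_true, Bool.and_eq_true, Bool.and_eq_true, Bool.and_eq_true] at h2
    obtain ⟨⟨⟨⟨h3, h4⟩, h5⟩, h6⟩, h7⟩ := h2
    exact ⟨by simpa using h3, by simpa using h5, by simpa using h6, hact s h7⟩
  by_cases hr72 : r < 72
  · rcases k12 r hr72 with ((h1 | h1) | h1) | h1
    · exact absurd h1 (by have := hr.two_le; omega)
    · rw [List.isEmpty_iff] at h1
      intro s x
      exact htd s (by rw [h1]; exact List.not_mem_nil) x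
    · exact absurd ((np_iff r).2 hr) (by rw [h1]; decide)
    · exact run_sound hn hr hr2 B hpow up uq hup huq hup1 huq1 _ _ h1 htd htd2
  · intro s x
    refine htd s (fun hs => ?_) x
    have h1 := (List.mem_filter.1 hs).1
    have h2 := k4 _ h1
    have hsp : (s : ℕ).Prime := Nat.prime_of_mem_primeFactors s.2
    rcases (htd2 s hs).2.2.2 with ⟨h3, _⟩ | ⟨_, h3⟩
    · omega
    · have h4 := Nat.le_of_dvd (by have := hsp.two_le; omega) h3
      omega

end Sound

end Cfsg.Agent.H823.B0R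
end

private theorem dce_29db1c812855 : _root_.True := by
  try have : _root_.True := by simp only [_root_.Cfsg.Agent.H823.B0R.todo.eq_1]
  try have : _root_.True := by simp only [_root_.Cfsg.Agent.H823.B0R.run.eq_def]
  try have : _root_.True := by simp only [_root_.Cfsg.Agent.H823.B0R.run.eq_2]
  try have : _root_.True := by simp only [_root_.Cfsg.Agent.H823.B0R.check.eq_1]
  try have : _root_.True := by simp only [_root_.Cfsg.Agent.H823.B0R.run.eq_1]
  try have : _root_.True := by simp only [_root_.Cfsg.Agent.H823.B0R.np.eq_1]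
  try have : _root_.True := by simp only [_root_.Cfsg.Agent.H823.B0R.isPow.eq_1]
  exact _root_.True.intro
end

-- part: H713/B0R/Tool
section
set_option linter.all false
open scoped Cfsg.Agent.FastGrp

/-!
# The engine `B₀(p) ∩ B₀(q)` : from the arithmetic modulo `n` to element orders, and the final form (helper713)

* `gen0_of_gen` : `Gen n p q []` gives `Gen0 o p q` for every divisor `o` of `n` (`p`, `q` divide `n` exactly once).
* `cond_of_prim` : the condition on `|N(P) : C(P)|` is free if `q` is a primitive root modulo `p`.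
* `rowZ_of_pair` : the two rows.
-/

set_option autoImplicit false

open Subgroup

namespace Cfsg.Agent.H713.B0R

open Cfsg Cfsg.Agent.H602.B0R Cfsg.Agent.H145.BR

universe u

/-- the Frobenius lemma for `G` -/
def FrobAt (p : ℕ) (G : Type u) [Group G] : Prop := ∀ M : Ideal AlgInt, IsPModular p M → Frob p M G

theorem div_dvd_div {n o p : ℕ} (hp : p.Prime) (hpn : p ∣ n) (hpn2 : ¬ p ^ 2 ∣ n) (ho : o ∣ n) :
    o / p ^ o.factorization p ∣ n / p := by
  have hn : n ≠ 0 := fun h => hpn2 (h ▸ dvd_zero _)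
  have ho0 : o ≠ 0 := fun h => hn (by rw [h] at ho; exact zero_dvd_iff.1 ho)
  by_cases h : p ∣ o
  · have h1 : o.factorization p = 1 := by
      have h2 : 1 ≤ o.factorization p := (hp.dvd_iff_one_le_factorization ho0).1 h
      have h3 : ¬ 2 ≤ o.factorization p := fun h4 => hpn2 (((hp.pow_dvd_iff_le_factorization ho0).2 h4).trans ho)
      omega
    rw [h1, pow_one]
    exact Nat.div_dvd_div h ho
  · rw [Nat.factorization_eq_zero_of_not_dvd h, pow_zero, Nat.div_one]
    have h1 : o ∣ n / p * p := by rwa [Nat.div_mul_cancel hpn]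
    exact Nat.Coprime.dvd_of_dvd_mul_right ((Nat.Prime.coprime_iff_not_dvd hp).2 h).symm h1

theorem unitsMap_val {n o : ℕ} (hn : n ≠ 0) (ho : o ∣ n) (v : (ZMod n)ˣ) :
    (ZMod.unitsMap ho v : ZMod o).val ≡ (v : ZMod n).val [MOD o] := by
  have : NeZero n := ⟨hn⟩
  have h1 : ((ZMod.unitsMap ho v : (ZMod o)ˣ) : ZMod o) = (((v : ZMod n).val : ℕ) : ZMod o) := by
    rw [ZMod.unitsMap_val, ZMod.natCast_val]
  rw [h1, ZMod.val_natCast]
  exact Nat.mod_modEq _ _

variable {G : Type u} [Group G] [Finite G]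

/-- the condition on the inertial index -/
theorem cond_of_prim {p q : ℕ} [hp : Fact p.Prime] (P : Sylow p G) (hP : Nat.card P = p)
    (h : ∀ e ∈ Nat.divisors (p - 1), e ≠ p - 1 → ¬ q ^ e ≡ 1 [MOD p]) :
    (centralizer (P : Set G)).relIndex (normalizer (P : Set G)) = p - 1 ∨
      ¬ q ^ (centralizer (P : Set G)).relIndex (normalizer (P : Set G)) ≡ 1 [MOD p] := by
  by_cases h1 : (centralizer (P : Set G)).relIndex (normalizer (P : Set G)) = p - 1
  · exact Or.inl h1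
  · refine Or.inr (h _ (Nat.mem_divisors.2 ⟨?_, ?_⟩) h1)
    · exact SmallSimple.BurnsideNC.relIndex_dvd_of_card_eq_prime P hP
    · have := hp.out.two_le
      omega

/-- **both rows of a pair** -/
theorem rowZ_of_pair {p q : ℕ} (hp : p.Prime) (hq : q.Prime) (hpq : p ≠ q) (hp2 : p ≠ 2) (hq2 : q ≠ 2)
    (hpG : p ∣ Nat.card G) (hpG2 : ¬ p ^ 2 ∣ Nat.card G) (hqG : q ∣ Nat.card G) (hqG2 : ¬ q ^ 2 ∣ Nat.card G)
    (cp : ∀ P : Sylow p G, (centralizer (P : Set G)).relIndex (normalizer (P : Set G)) = p - 1 ∨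
      ¬ q ^ (centralizer (P : Set G)).relIndex (normalizer (P : Set G)) ≡ 1 [MOD p])
    (cq : ∀ Q : Sylow q G, (centralizer (Q : Set G)).relIndex (normalizer (Q : Set G)) = q - 1 ∨
      ¬ p ^ (centralizer (Q : Set G)).relIndex (normalizer (Q : Set G)) ≡ 1 [MOD q])
    (hno : ∀ g : G, orderOf g ≠ p * q) (fp : FrobAt p G) (fq : FrobAt q G)
    (hg : ∀ g : G, Gen0 (orderOf g) p q) : RowZ p G ∧ RowZ q G := by
  have := Fact.mk hp
  have := Fact.mk hq
  have hcp : ∀ P : Sylow p G, Nat.card P = p := fun P => H852.RatB.card_sylow_of_not_sq hpG hpG2 P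
  have hcq : ∀ Q : Sylow q G, Nat.card Q = q := fun Q => H852.RatB.card_sylow_of_not_sq hqG hqG2 Q
  have hout : ∀ M M' : Ideal AlgInt, IsPModular p M → IsPModular q M' → Out p q M M' G := fun M M' hM hM' =>
    (Pair.mk hp hq hpq hp2 hq2 hM hM' (fun P => ⟨hcp P, cp P⟩) (fun Q => ⟨hcq Q, cq Q⟩) hno (fp M hM)
      (fq M' hM')).out_of_gen0 hg
  obtain ⟨M₀, hM₀⟩ := Cfsg.Agent.Blocks.ExistsModular.exists_isPModular hp
  obtain ⟨M₁, hM₁⟩ := Cfsg.Agent.Blocks.ExistsModular.exists_isPModular hq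
  obtain ⟨P⟩ : Nonempty (Sylow p G) := inferInstance
  obtain ⟨Q⟩ : Nonempty (Sylow q G) := inferInstance
  have hrat : ∀ {z : ℂ}, (∃ k : ℤ, z = k) → ∃ r : ℚ, z = r := by
    rintro z ⟨k, rfl⟩
    exact ⟨(k : ℚ), by push_cast; rfl⟩
  constructor
  · refine H852.RatB.rowZ_of_ratB hp2 P (hcp P) fun M hM => ?_
    obtain ⟨χ, h1, -, h3, -, -, -, h7⟩ := hout M M₁ hM hM₁
    exact ⟨χ, h1, h3, fun g => hrat (h7 g)⟩
  · refine H852.RatB.rowZ_of_ratB hq2 Q (hcq Q) fun M hM => ?_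
    obtain ⟨χ, -, h2, h3, -, -, -, h7⟩ := hout M₀ M hM₀ hM
    exact ⟨χ, h2, h3, fun g => hrat (h7 g)⟩

end Cfsg.Agent.H713.B0R
end
end
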