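import Cfsg.Agent.H713.B0R.FiSevenK3_m3
import Cfsg.Agent.H713.B0R.FiSevenK1
import Cfsg.Agent.H713.B0R.FiSevenK8
import Cfsg.Agent.H713.B0R.FiSevenKY
import Cfsg.Agent.H842.ThreeCl
import Cfsg.Agent.H841.SevU
import Cfsg.Agent.H830.Con24
import Cfsg.Agent.H831.Types
import Cfsg.Agent.KFacts.FiTF.FixZ_m3
import Cfsg.Agent.FastGrp
import Cfsg.Agent.Prune
set_option linter.all false

-- part: H713/B0R/FiSevenK0
section
set_option linter.all false

/-!
# Kernel check: the number of transpositions moved by an element of order 3 of `Fi₂₄` (helper713)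
-/

set_option autoImplicit false
set_option maxRecDepth 100000

namespace Cfsg.Agent.H713.B0R.FiSevenK

theorem chk0 : mvB [.l, .k] 303696 = true := mvB_fast (by decide +kernel)

end Cfsg.Agent.H713.B0R.FiSevenK
end

-- part: H713/B0R/FiSeven
section
set_option linter.all false
open scoped Cfsg.Agent.FastGrp

/-!
# `Fi₂₄` has no element of order 63 (helper713)
-/

set_option autoImplicit false
set_option linter.constructorNameAsVariable false
set_option maxRecDepth 100000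
set_option Elab.async false

namespace Cfsg.Agent.H713.B0R.FiSeven

open Cfsg Cfsg.Agent Cfsg.Agent.Lib.PermNet Cfsg.Agent.Lib.PermNetPt Cfsg.Agent.Fischer.Fi24RepDef
open Cfsg.Agent.Fischer.Fi24Rep
open Cfsg.Agent.Fischer.Fi24RepOrb (UG orbG)
open Cfsg.Agent.Fischer.Fi24Spider (word_append word_cons word_nil)
open Cfsg.Agent.R08.FiTwentyFour (L)
open Cfsg.Agent.KFacts.FiTF.Pts Cfsg.Agent.KFacts.FiTF.FixMask
open Cfsg.Agent.H842.Seven
open Cfsg.Agent.H713.B0R.FiSevenK
open Cfsg.Spor (Fi24)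
open Cfsg.Spor.Fi24 (Gen)
open Equiv Subgroup

instance finFi24 : Finite Fi24 := Cfsg.Agent.R08.FiTwentyFour.finite_Fi24

/-! ### The transpositions not commuting with an element -/

/-- the transpositions not commuting with `w` -/
def Mv (w : Fi24) : Set Fi24 := {d | d ∈ L ∧ ¬ Commute w d}

/-- their number -/
noncomputable def cM (w : Fi24) : ℕ := (Mv w).ncard

theorem cM_of_mvB {w : List Gen} {m : ℕ} (h : mvB w m = true) : cM (word w) = m := by
  unfold mvB at h
  rw [seqB_eq, Bool.and_eq_true] at h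
  have h1 := Cfsg.Agent.Lib.PermNetOrbit.ncard_testBit h.1 h.2
  have hw : WOk (2 ^ 19) (nw w false) := Cfsg.Agent.Fischer.Fi24RepLib.WOk.mono (by norm_num) (wok w false)
  have key : ∀ p : ℕ, (mv w).testBit p = true ↔ UG.testBit p = true ∧ rho (word w) p ≠ p := by
    intro p
    have e : (mv w).testBit p = ((Cfsg.Agent.Lib.PermNetFix.moved 19 (nw w false)).testBit p && UG.testBit p) := by
      unfold mv
      exact Nat.testBit_and _ _ _
    rw [e, Bool.and_eq_true, rho_word, and_comm]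
    refine and_congr_right fun hU => ?_
    by_cases hp : p < 2 ^ 19
    · exact Cfsg.Agent.Lib.PermNetFix.testBit_moved hw hp
    · constructor
      · intro h2
        exfalso
        have h3 : (mv w).testBit p = true := by rw [e, h2, hU]; rfl
        have h4 : (mv w) >>> 2 ^ 19 = 0 := Nat.eq_of_beq_eq_true h.1
        have h5 : mv w < 2 ^ 2 ^ 19 := by
          rw [Nat.shiftRight_eq_div_pow] at h4
          exact (Nat.div_eq_zero_iff_lt (by positivity)).1 h4
        rw [Nat.testBit_lt_two_pow (lt_of_lt_of_le h5 (Nat.pow_le_pow_right (by norm_num) (by omega)))] at h3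
        exact absurd h3 (by simp)
      · intro h2
        exact absurd (wperm_eq_of_le hw (by omega)) h2
  unfold cM
  rw [← h1]
  refine Set.ncard_congr (fun d hd => (exists_pt hd.1).choose) ?_ ?_ ?_
  · intro d hd
    have h2 := (exists_pt hd.1).choose_spec
    refine (key _).2 ⟨bit h2, fun h3 => hd.2 ((h2.comm_iff _).2 h3)⟩
  · intro d d' hd hd' h2
    have e1 := (exists_pt hd.1).choose_spec
    have e2 := (exists_pt hd'.1).choose_spec
    have h3 : (exists_pt hd.1).choose = (exists_pt hd'.1).choose := h2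
    rw [h3] at e1
    exact e1.inj e2
  · intro p hp
    obtain ⟨h2, h3⟩ := (key p).1 hp
    have h4 : p ∈ {p : ℕ | UG.testBit p = true} := h2
    rw [← orbG] at h4
    obtain ⟨x, hx⟩ := h4
    have h5 : IsPt (x * gen .l * x⁻¹) p := ⟨x, hx, rfl⟩
    refine ⟨x * gen .l * x⁻¹, ⟨h5.mem, fun h6 => h3 ((h5.comm_iff _).1 h6)⟩, ?_⟩
    exact (exists_pt h5.mem).choose_spec.uniq h5

theorem cM_conj (g w : Fi24) : cM (g * w * g⁻¹) = cM w := by
  have h : Mv (g * w * g⁻¹) = (fun d => g * d * g⁻¹) '' Mv w := by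
    ext d
    constructor
    · rintro ⟨h1, h2⟩
      refine ⟨g⁻¹ * d * g, ⟨?_, fun h3 => h2 ?_⟩, by group⟩
      · have h4 := Cfsg.Agent.R08.FiTwentyFour.conj h1 g⁻¹
        rwa [inv_inv] at h4
      · have h4 := h3.map (MulAut.conj g).toMonoidHom
        have h5 : Commute (g * w * g⁻¹) (g * (g⁻¹ * d * g) * g⁻¹) := h4
        rwa [show g * (g⁻¹ * d * g) * g⁻¹ = d by group] at h5
    · rintro ⟨d, ⟨h1, h2⟩, rfl⟩
      refine ⟨Cfsg.Agent.R08.FiTwentyFour.conj h1 g, fun h3 => h2 ?_⟩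
      have h4 := h3.map (MulAut.conj g⁻¹).toMonoidHom
      have h5 : Commute (g⁻¹ * (g * w * g⁻¹) * g⁻¹⁻¹) (g⁻¹ * (g * d * g⁻¹) * g⁻¹⁻¹) := h4
      rwa [show g⁻¹ * (g * w * g⁻¹) * g⁻¹⁻¹ = w by group, show g⁻¹ * (g * d * g⁻¹) * g⁻¹⁻¹ = d by group] at h5
  unfold cM
  rw [h]
  exact Set.ncard_image_of_injective _ fun a b hab => by
    have : g * a * g⁻¹ = g * b * g⁻¹ := hab
    exact mul_left_cancel (mul_right_cancel this)

theorem cM_inv (w : Fi24) : cM w⁻¹ = cM w := by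
  have h : Mv w⁻¹ = Mv w := by
    ext d
    constructor
    · rintro ⟨h1, h2⟩
      exact ⟨h1, fun h3 => h2 h3.inv_left⟩
    · rintro ⟨h1, h2⟩
      exact ⟨h1, fun h3 => h2 (by have := h3.inv_left; rwa [inv_inv] at this)⟩
  unfold cM
  rw [h]

/-- counting modulo 7 -/
theorem cM_mod {s w : Fi24} (hs : orderOf s = 7) (hc : Commute s w) :
    cM w ≡ Nat.card {d : Mv w // Commute s (d : Fi24)} [MOD 7] := by
  have h7 : Fact (Nat.Prime 7) := ⟨by norm_num⟩
  have hN : ∀ x ∈ zpowers s, ∀ d ∈ Mv w, x * d * x⁻¹ ∈ Mv w := by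
    rintro _ ⟨m, rfl⟩ d ⟨h1, h2⟩
    refine ⟨Cfsg.Agent.R08.FiTwentyFour.conj h1 _, fun h3 => h2 ?_⟩
    have h4 := h3.map (MulAut.conj (s ^ m)⁻¹).toMonoidHom
    have h5 : Commute ((s ^ m)⁻¹ * w * (s ^ m)⁻¹⁻¹) ((s ^ m)⁻¹ * (s ^ m * d * (s ^ m)⁻¹) * (s ^ m)⁻¹⁻¹) := h4
    have h6 : Commute (s ^ m) w := hc.zpow_left m
    rwa [h6.inv_left.eq, mul_assoc, mul_inv_cancel, mul_one,
      show (s ^ m)⁻¹ * (s ^ m * d * (s ^ m)⁻¹) * (s ^ m)⁻¹⁻¹ = d by group] at h5
  let _ : MulAction (zpowers s) (Mv w) :=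
    { smul := fun x d => ⟨x * d * (x : Fi24)⁻¹, hN x x.2 d d.2⟩
      one_smul := fun d => Subtype.ext (by show (1 : Fi24) * d * (1 : Fi24)⁻¹ = d; group)
      mul_smul := fun x y d => Subtype.ext (by
        show ((x * y : zpowers s) : Fi24) * d * ((x * y : zpowers s) : Fi24)⁻¹ = x * (y * d * (y : Fi24)⁻¹) * (x : Fi24)⁻¹
        rw [Subgroup.coe_mul]; group) }
  have hsm : ∀ (x : zpowers s) (d : Mv w), ((x • d : Mv w) : Fi24) = x * d * (x : Fi24)⁻¹ := fun _ _ => rfl
  have hp : IsPGroup 7 (zpowers s) := IsPGroup.of_card (n := 1) (by rw [Nat.card_zpowers, hs, pow_one])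
  have h1 := hp.card_modEq_card_fixedPoints (Mv w)
  have h0 : Nat.card (Mv w) = cM w := rfl
  rw [h0] at h1
  refine h1.trans ?_
  have e : MulAction.fixedPoints (zpowers s) (Mv w) ≃ {d : Mv w // Commute s (d : Fi24)} :=
    { toFun := fun d => ⟨d, by
        have h2 := congrArg Subtype.val (d.2 ⟨s, mem_zpowers s⟩)
        rw [hsm] at h2
        exact mul_inv_eq_iff_eq_mul.1 h2⟩
      invFun := fun d => ⟨d, fun x => Subtype.ext (by
        rw [hsm]
        obtain ⟨m, hm⟩ := x.2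
        have h3 : s ^ m = (x : Fi24) := hm
        have h4 : Commute (x : Fi24) (d : Mv w) := by rw [← h3]; exact d.2.zpow_left m
        show (x : Fi24) * (d : Mv w) * (x : Fi24)⁻¹ = (d : Mv w)
        rw [h4.eq, mul_inv_cancel_right])⟩
      left_inv := fun d => rfl
      right_inv := fun d => rfl }
  rw [Nat.card_congr e]

/-! ### Permutations of 7 points -/

/-- the permutation `(0 1 2)(3 4 5)` -/
def τ : Perm (Fin 7) := swap (0 : Fin 7) 1 * swap (1 : Fin 7) 2 * (swap (3 : Fin 7) 4 * swap (4 : Fin 7) 5)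

theorem not_nine (σ : Perm (Fin 7)) : orderOf σ ≠ 9 := by
  intro h
  have h1 : σ.cycleType.lcm ∣ 3 := by
    refine Multiset.lcm_dvd.2 fun n hn => ?_
    have h2 : n ∣ 9 := by rw [← h, ← Equiv.Perm.lcm_cycleType]; exact Multiset.dvd_lcm hn
    have h3 : n ≤ 7 := by
      have h4 : n ≤ σ.cycleType.sum := Multiset.le_sum_of_mem hn
      rw [Equiv.Perm.sum_cycleType] at h4
      exact h4.trans (by have := Finset.card_le_univ σ.support; simpa using this)
    interval_cases n <;> revert h2 <;> decide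
  rw [Equiv.Perm.lcm_cycleType, h] at h1
  revert h1
  decide

theorem tau_fix : ∀ i : Fin 7, τ i = i → i = 6 := by decide

theorem perm7 {σ : Perm (Fin 7)} (h : σ ^ 49 = 1) (hc : σ * τ = τ * σ) : σ = 1 := by
  have h6 : σ 6 = 6 := by
    apply tau_fix
    have h1 : σ (τ 6) = τ (σ 6) := congrArg (fun f : Perm (Fin 7) => f 6) hc
    rw [show τ 6 = 6 by decide] at h1
    exact h1.symm
  by_contra hne
  obtain ⟨n, hn⟩ : ∃ n, n ∈ σ.cycleType := by
    have : σ.cycleType ≠ 0 := fun h0 => hne (Equiv.Perm.cycleType_eq_zero.1 h0)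
    exact Multiset.exists_mem_of_ne_zero this
  have h2 : n ∣ 49 := (Equiv.Perm.dvd_of_mem_cycleType hn).trans (orderOf_dvd_of_pow_eq_one h)
  have h3 := Equiv.Perm.two_le_of_mem_cycleType hn
  have h4 : n ≤ 6 := by
    have h5 : n ≤ σ.cycleType.sum := Multiset.le_sum_of_mem hn
    rw [Equiv.Perm.sum_cycleType] at h5
    refine h5.trans ?_
    have h7 : σ.support ⊆ Finset.univ.erase 6 := by
      intro x hx
      rw [Finset.mem_erase]
      refine ⟨?_, Finset.mem_univ _⟩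
      rintro rfl
      exact (Equiv.Perm.mem_support.1 hx) h6
    exact (Finset.card_le_card h7).trans (by decide)
  interval_cases n <;> revert h2 <;> decide

/-! ### The classes of elements of order 3 -/

open Cfsg.Agent.H842.ThreeCl (X)

/-- `u` or its inverse is conjugate to `X i` -/
def Cl (i : Fin 5) (u : Fi24) : Prop := ∃ g : Fi24, g * u * g⁻¹ = X i ∨ g * u * g⁻¹ = (X i)⁻¹

theorem exists_cl {y : Fi24} (h3 : y ^ 3 = 1) (h1 : y ≠ 1) : ∃ i, Cl i y :=
  Cfsg.Agent.H842.ThreeCl.all (Cfsg.Agent.H831.Types.inh_of_defs Cfsg.Agent.H830.Con24.fgroup)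
    Cfsg.Agent.H830.Con24.isT8 h3 h1

theorem Cl.cM_eq {i : Fin 5} {u : Fi24} (h : Cl i u) : cM u = cM (X i) := by
  obtain ⟨g, h | h⟩ := h
  · rw [← h, cM_conj]
  · rw [← cM_inv (X i), ← h, cM_conj]

theorem Cl.conj {i : Fin 5} {u v : Fi24} (hu : Cl i u) (hv : Cl i v) :
    ∃ g : Fi24, g * u * g⁻¹ = v ∨ g * u * g⁻¹ = v⁻¹ := by
  obtain ⟨g, hg⟩ := hu
  obtain ⟨h, hh⟩ := hv
  refine ⟨h⁻¹ * g, ?_⟩
  have e : h⁻¹ * g * u * (h⁻¹ * g)⁻¹ = h⁻¹ * (g * u * g⁻¹) * h := by group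
  have e1 : v = h⁻¹ * (h * v * h⁻¹) * h := by group
  have e2 : v⁻¹ = h⁻¹ * (h * v * h⁻¹)⁻¹ * h := by group
  rcases hg with hg | hg <;> rcases hh with hh | hh
  · left; rw [e, hg, e1, hh]
  · right; rw [e, hg, e2, hh, inv_inv]
  · right; rw [e, hg, e2, hh]
  · left; rw [e, hg, e1, hh]

theorem X0 : X 0 = word [.l, .k] := by
  show gen .l * gen .k = _
  simp only [word_cons, word_nil, mul_one]

theorem cM0 : cM (X 0) = 303696 := by rw [X0]; exact cM_of_mvB chk0
theorem cM1 : cM (X 1) = 306558 := cM_of_mvB chk1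
theorem cM3 : cM (X 3) = 306774 := cM_of_mvB chk3

/-- an element of the class with 1485 transpositions -/
noncomputable def z8 : Fi24 := word [.l, .c, .b, .k, .a, .h, .a, .i]

theorem cMz : cM z8 = 305451 := cM_of_mvB chk8

theorem chk_z8 : Cfsg.Agent.H843.Pat.chkEq (rep 3 [.l, .c, .b, .k, .a, .h, .a, .i]) [] = true := by
  decide +kernel

theorem z8_pow : z8 ^ 3 = 1 := by
  have h := Cfsg.Agent.H843.Pat.word_eq_of chk_z8
  rw [Cfsg.Agent.H843.Pat.word_rep, word_nil] at h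
  exact h

theorem cM_one : cM 1 = 0 := by
  unfold cM
  have : Mv 1 = ∅ := by
    ext d
    simp only [Set.mem_empty_iff_false, iff_false]
    rintro ⟨-, h⟩
    exact h (Commute.one_left d)
  rw [this, Set.ncard_empty]

theorem z8_ne : z8 ≠ 1 := by
  intro h
  have h1 := cMz
  rw [h, cM_one] at h1
  exact absurd h1 (by norm_num)

/-- the element `(0 1 2)(3 4 5)` of `S₇` -/
noncomputable def w1 : Fi24 := Psi τ

theorem w1_pow : w1 ^ 3 = 1 := by
  unfold w1
  rw [← map_pow, show τ ^ 3 = 1 by decide, map_one]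

theorem w1_ne : w1 ≠ 1 := by
  intro h
  have h1 : τ = 1 := Psi_injective (by rw [map_one]; exact h)
  exact absurd h1 (by decide)

theorem oy7 : orderOf y7 = 7 := by
  have : Fact (Nat.Prime 7) := ⟨by norm_num⟩
  exact orderOf_eq_prime Cfsg.Agent.H842.SevenSyl.y7_pow Cfsg.Agent.H842.SevenSyl.y7_ne

theorem y7_w1 : Commute y7 w1 := (y7_Psi τ).symm

theorem cMy : cM y7 = 306915 := cM_of_mvB chkY

theorem tau_swap : ∀ i j : Fin 7, i ≠ j → τ * swap i j ≠ swap i j * τ := by decide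

/-- no transposition commuting with `y7` commutes with `w1` -/
theorem not_comm_w1 {d : Fi24} (hd : d ∈ L) (hc : Commute y7 d) : ¬ Commute w1 d := by
  intro h
  have h1 : d ∈ L ∩ (Subgroup.centralizer ((zpowers y7 : Subgroup Fi24) : Set Fi24) : Set Fi24) := by
    refine ⟨hd, ?_⟩
    show d ∈ Subgroup.centralizer ((zpowers y7 : Subgroup Fi24) : Set Fi24)
    rw [mem_centralizer_iff]
    rintro _ ⟨m, rfl⟩
    exact (hc.zpow_left m).eq
  rw [Cfsg.Agent.H842.SevenSyl.inter_eq] at h1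
  obtain ⟨σ, ⟨i, j, hij, rfl⟩, rfl⟩ := h1
  refine tau_swap i j hij (Psi_injective ?_)
  rw [map_mul, map_mul]
  exact h.eq

theorem cMw : cM w1 ≡ 0 [MOD 7] := by
  have h1 := cM_mod oy7 y7_w1
  have h2 : Nat.card {d : Mv w1 // Commute y7 (d : Fi24)} = 21 := by
    have e : {d : Mv w1 // Commute y7 (d : Fi24)} ≃ ({d | d ∈ L ∧ Commute y7 d} : Set Fi24) :=
      { toFun := fun d => ⟨d, d.1.2.1, d.2⟩
        invFun := fun d => ⟨⟨d, d.2.1, not_comm_w1 d.2.1 d.2.2⟩, d.2.2⟩
        left_inv := fun d => rfl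
        right_inv := fun d => rfl }
    rw [Nat.card_congr e]
    have h3 : (Mv y7 ∪ {d | d ∈ L ∧ Commute y7 d}).ncard = (Mv y7).ncard + ({d | d ∈ L ∧ Commute y7 d} : Set Fi24).ncard :=
      Set.ncard_union_eq (Set.disjoint_left.2 fun d h4 h5 => h4.2 h5.2)
    have h4 : Mv y7 ∪ {d | d ∈ L ∧ Commute y7 d} = L := by
      ext d
      constructor
      · rintro (h | h)
        · exact h.1
        · exact h.1
      · intro h
        by_cases hc : Commute y7 d
        · exact Or.inr ⟨h, hc⟩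
        · exact Or.inl ⟨h, hc⟩
    rw [h4, Cfsg.Agent.R08.FiTwentyFour.ncard_L] at h3
    have h5 : (Mv y7).ncard = 306915 := cMy
    rw [h5] at h3
    show ({d | d ∈ L ∧ Commute y7 d} : Set Fi24).ncard = 21
    omega
  rw [h2] at h1
  exact h1.trans (by decide)

/-! ### The centralizer of `x2` -/

open Cfsg.Agent.H841.Sev (x2_conj)
open Cfsg.Agent.LThreeFi24.TwinK (M2)

theorem ne_x2 : (Cfsg.Agent.LThreeFi24.SNine.x2 : Fi24) ≠ 1 := by
  intro h
  rw [Cfsg.Agent.H841.Sev.x2_vec] at h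
  have := Cfsg.Agent.H841.Sev.vec_eq_one h
  exact absurd this (by decide)

/-- the 3-elements commuting with an element of order 7 of `C(x2)` -/
theorem cent_x2 {s y : Fi24} (hs : orderOf s = 7) {n : ℕ} (hy : orderOf y = 3 ^ n)
    (hsx : Commute s Cfsg.Agent.LThreeFi24.SNine.x2) (hyx : Commute y Cfsg.Agent.LThreeFi24.SNine.x2) (hc : Commute s y) :
    y ∈ zpowers (Cfsg.Agent.LThreeFi24.SNine.x2 : Fi24) := by
  have hN : ∀ g : Fi24, Commute g Cfsg.Agent.LThreeFi24.SNine.x2 →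
      ∀ a ∈ Cfsg.Agent.H841.Sev.A, g * a * g⁻¹ ∈ Cfsg.Agent.H841.Sev.A := by
    intro g hg
    apply Cfsg.Agent.H841.Sev.mem_N_iff.1
    apply Cfsg.Agent.H841.Sev.NY_le_N
    refine Cfsg.Agent.H841.Sev.mem_NY.2 (Or.inl ?_)
    rw [hg.eq, mul_inv_cancel_right]
  exact Abs7.abs7 Cfsg.Agent.H841.Sev.card_A (fun a ha b hb => (Cfsg.Agent.H841.Sev.A_comm ha hb).eq)
    (fun g hg => Cfsg.Agent.H841.Sev.mem_A_of_comm hg) hs (hN s hsx) (hN y hyx) hy
    (Cfsg.Agent.H841.Sev.x2_mem_A (mem_zpowers _)) ne_x2 hsx.eq hyx.eq hc.eq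

/-- the same for an element of the class of `X 1` -/
theorem cent_cl1 {s y w : Fi24} (hw : Cl 1 w) (hs : orderOf s = 7) {n : ℕ} (hy : orderOf y = 3 ^ n)
    (hsx : Commute s w) (hyx : Commute y w) (hc : Commute s y) : y ∈ zpowers w := by
  obtain ⟨g, hg⟩ := hw
  set h := word Cfsg.Agent.H841.Sev.ur * g with hh
  have e0 : h * w * h⁻¹ = word Cfsg.Agent.H841.Sev.ur * (g * w * g⁻¹) * (word Cfsg.Agent.H841.Sev.ur)⁻¹ := by
    rw [hh]; group
  have e1 : h * w * h⁻¹ = Cfsg.Agent.LThreeFi24.SNine.x2 ∨ h * w * h⁻¹ = (Cfsg.Agent.LThreeFi24.SNine.x2)⁻¹ := by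
    rcases hg with hg | hg
    · left
      rw [e0, hg]
      exact x2_conj
    · right
      rw [e0, hg, ← x2_conj]
      show word Cfsg.Agent.H841.Sev.ur * (word [.l, .k, .b, .c])⁻¹ * (word Cfsg.Agent.H841.Sev.ur)⁻¹ = _
      group
  have cj : ∀ {a b : Fi24}, Commute a b → Commute (h * a * h⁻¹) (h * b * h⁻¹) := fun hab =>
    hab.map (MulAut.conj h).toMonoidHom
  have ho : ∀ a : Fi24, orderOf (h * a * h⁻¹) = orderOf a := fun a => MulEquiv.orderOf_eq (MulAut.conj h) a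
  have cx : ∀ {a : Fi24}, Commute a w → Commute (h * a * h⁻¹) Cfsg.Agent.LThreeFi24.SNine.x2 := by
    intro a ha
    have h1 := cj ha
    rcases e1 with e1 | e1
    · rwa [e1] at h1
    · rw [e1] at h1
      have := h1.inv_right
      rwa [inv_inv] at this
  have h1 := cent_x2 (s := h * s * h⁻¹) (y := h * y * h⁻¹) (by rw [ho, hs]) (by rw [ho]; exact hy) (cx hsx) (cx hyx) (cj hc)
  have h2 : zpowers (Cfsg.Agent.LThreeFi24.SNine.x2 : Fi24) = zpowers (h * w * h⁻¹) := by
    rcases e1 with e1 | e1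
    · rw [e1]
    · rw [e1, zpowers_inv]
  rw [h2] at h1
  obtain ⟨m, hm⟩ := h1
  refine ⟨m, ?_⟩
  have hm' : (h * w * h⁻¹) ^ m = h * y * h⁻¹ := hm
  rw [conj_zpow] at hm'
  exact mul_left_cancel (mul_right_cancel hm')

/-- the permutation `(0 1 2)` -/
def c3 : Perm (Fin 7) := swap (0 : Fin 7) 1 * swap (1 : Fin 7) 2

theorem not_cl1 : ¬ Cl 1 w1 := by
  intro h
  have ho : orderOf (Psi c3) = 3 ^ 1 := by
    rw [orderOf_injective Psi Psi_injective, pow_one]
    have : Fact (Nat.Prime 3) := ⟨by norm_num⟩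
    exact orderOf_eq_prime (by decide) (by decide)
  have h1 := cent_cl1 (s := y7) (y := Psi c3) h oy7 ho y7_w1 (by
    show Commute (Psi c3) (Psi τ)
    exact (show Commute c3 τ by show c3 * τ = τ * c3; decide).map Psi) (y7_Psi c3).symm
  obtain ⟨m, hm⟩ := h1
  have hm' : (Psi τ) ^ m = Psi c3 := hm
  rw [← map_zpow] at hm'
  have h2 : τ ^ m = c3 := Psi_injective hm'
  have h3 : Commute τ (swap (0 : Fin 7) 3 * swap (1 : Fin 7) 4 * swap (2 : Fin 7) 5) := by
    show τ * (swap (0 : Fin 7) 3 * swap (1 : Fin 7) 4 * swap (2 : Fin 7) 5) = (swap (0 : Fin 7) 3 * swap (1 : Fin 7) 4 * swap (2 : Fin 7) 5) * τ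
    decide
  have h4 := (h3.zpow_left m).eq
  rw [h2] at h4
  revert h4
  decide

/-- the classes 2 and 4 are those of `z8` and `w1` -/
theorem cl_cases {i : Fin 5} (hi : i = 2 ∨ i = 4) : Cl i z8 ∨ Cl i w1 := by
  obtain ⟨a, ha⟩ := exists_cl z8_pow z8_ne
  obtain ⟨b, hb⟩ := exists_cl w1_pow w1_ne
  have ea := ha.cM_eq
  rw [cMz] at ea
  have eb := hb.cM_eq
  have ha' : a = 2 ∨ a = 4 := by
    fin_cases a
    · exfalso
      have h : 305451 = cM (X 0) := ea
      rw [cM0] at h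
      omega
    · exfalso
      have h : 305451 = cM (X 1) := ea
      rw [cM1] at h
      omega
    · exact Or.inl rfl
    · exfalso
      have h : 305451 = cM (X 3) := ea
      rw [cM3] at h
      omega
    · exact Or.inr rfl
  have hb' : b = 2 ∨ b = 4 := by
    have hm := cMw
    rw [eb] at hm
    fin_cases b
    · exfalso
      have h : cM (X 0) ≡ 0 [MOD 7] := hm
      rw [cM0] at h
      exact absurd h (by decide)
    · exact absurd hb not_cl1
    · exact Or.inl rfl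
    · exfalso
      have h : cM (X 3) ≡ 0 [MOD 7] := hm
      rw [cM3] at h
      exact absurd h (by decide)
    · exact Or.inr rfl
  have hab : a ≠ b := by
    rintro rfl
    have hm := cMw
    rw [eb, ← ea] at hm
    exact absurd hm (by decide)
  rcases hi with rfl | rfl <;> rcases ha' with rfl | rfl <;> rcases hb' with rfl | rfl
  · exact Or.inl ha
  · exact Or.inl ha
  · exact Or.inr hb
  · exact absurd rfl hab
  · exact absurd rfl hab
  · exact Or.inr hb
  · exact Or.inl ha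
  · exact Or.inl ha

/-! ### The centralizer of `w1` -/

theorem not_49 : ¬ 7 ^ 2 ∣ Nat.card ↥(centralizer ({w1} : Set Fi24)) := by
  intro h
  have h7 : Fact (Nat.Prime 7) := ⟨by norm_num⟩
  set H := centralizer ({w1} : Set Fi24) with hH
  have hy : y7 ∈ H := mem_centralizer_singleton_iff.2 y7_w1
  obtain ⟨K, hK, hle⟩ := Sylow.exists_subgroup_card_pow_succ (p := 7) (n := 1) (G := H) h
    (H := zpowers (⟨y7, hy⟩ : H)) (by
      rw [Nat.card_zpowers, Subgroup.orderOf_mk, oy7, pow_one])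
  have hcomm : ∀ a b : K, a * b = b * a := IsPGroup.commutative_of_card_eq_prime_sq hK
  have key : K.map H.subtype ≤ zpowers y7 := by
    rintro _ ⟨k, hk, rfl⟩
    have h1 : (k : Fi24) * y7 = y7 * k := by
      have h2 := hcomm ⟨k, hk⟩ ⟨⟨y7, hy⟩, hle (mem_zpowers _)⟩
      have h3 := congrArg (fun a : K => ((a : H) : Fi24)) h2
      exact h3
    have h2 : (k : Fi24) * w1 = w1 * k := mem_centralizer_singleton_iff.1 k.2
    obtain ⟨i, σ, h3⟩ := exists_of_comm7 h1
    have h4 : Commute (y7 ^ i) (Psi σ) := ((y7_Psi σ).symm).pow_left i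
    have h5 : (k : Fi24) ^ 49 = 1 := by
      have h6 : orderOf (⟨k, hk⟩ : K) ∣ 49 := by
        have := orderOf_dvd_natCard (⟨k, hk⟩ : K)
        rw [hK] at this
        exact this
      have h7 := orderOf_dvd_iff_pow_eq_one.1 h6
      have h8 := congrArg (fun a : K => ((a : H) : Fi24)) h7
      exact h8
    have h6 : σ ^ 49 = 1 := by
      apply Psi_injective
      rw [map_one, map_pow]
      rw [h3, h4.mul_pow, ← pow_mul] at h5
      have h6 : y7 ^ (i * 49) = 1 := by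
        rw [show i * 49 = 7 * (i * 7) by ring, pow_mul, Cfsg.Agent.H842.SevenSyl.y7_pow, one_pow]
      rwa [h6, one_mul] at h5
    have h7 : σ * τ = τ * σ := by
      apply Psi_injective
      rw [map_mul, map_mul]
      have h8 : Commute (y7 ^ i) (Psi τ) := ((y7_Psi τ).symm).pow_left i
      have h9 : Psi σ = (y7 ^ i)⁻¹ * k := by rw [h3]; group
      have h10 : Commute ((y7 ^ i)⁻¹ * (k : Fi24)) (Psi τ) := h8.inv_left.mul_left h2
      rw [h9]
      exact h10.eq
    have h8 := perm7 h6 h7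
    show (k : Fi24) ∈ zpowers y7
    rw [h3, h8, map_one, mul_one]
    exact pow_mem (mem_zpowers _) _
  have h1 := Subgroup.card_dvd_of_le key
  rw [Nat.card_zpowers, oy7, ← Nat.card_congr (K.equivMapOfInjective _ H.subtype_injective).toEquiv, hK] at h1
  exact absurd h1 (by decide)

/-- an element of order 7 commuting with `w1` is conjugate into `⟨y7⟩` -/
theorem conj_of_w1 {s : Fi24} (hs : orderOf s = 7) (hc : Commute s w1) : ∃ g : Fi24, g * s * g⁻¹ ∈ zpowers y7 := by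
  have h7 : Fact (Nat.Prime 7) := ⟨by norm_num⟩
  have hy : y7 ∈ centralizer ({w1} : Set Fi24) := mem_centralizer_singleton_iff.2 y7_w1
  have hs' : s ∈ centralizer ({w1} : Set Fi24) := mem_centralizer_singleton_iff.2 hc
  have hfac : (Nat.card ↥(centralizer ({w1} : Set Fi24))).factorization 7 = 1 := by
    have h0 : Nat.card ↥(centralizer ({w1} : Set Fi24)) ≠ 0 := Nat.card_pos.ne'
    have h1 : 7 ∣ Nat.card ↥(centralizer ({w1} : Set Fi24)) := by
      have := Subgroup.orderOf_dvd_natCard _ hy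
      rwa [oy7] at this
    have h2 := (Nat.Prime.pow_dvd_iff_le_factorization h7.out h0 (k := 1)).1 (by rw [pow_one]; exact h1)
    have h3 : ¬ 2 ≤ (Nat.card ↥(centralizer ({w1} : Set Fi24))).factorization 7 := fun h =>
      not_49 ((Nat.Prime.pow_dvd_iff_le_factorization h7.out h0).2 h)
    omega
  obtain ⟨⟨k, hk⟩, h1⟩ := Cfsg.Agent.H842.SevenSyl.conj_of_card hfac (x := ⟨s, hs'⟩) (y := ⟨y7, hy⟩)
    (by rw [Subgroup.orderOf_mk]; exact hs) (by rw [Subgroup.orderOf_mk]; exact oy7)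
  obtain ⟨i, hi⟩ := h1
  have h2 : y7 ^ i = k * s * k⁻¹ := congrArg Subtype.val hi
  exact ⟨k, i, h2⟩

/-! ### No element of order 63 -/

/-- the elements conjugate to `c` -/
def CT (s : Fi24) : Prop := ∃ h : Fi24, s = h * Cfsg.Agent.H842.SevenSyl.c * h⁻¹

theorem CT.conj {s : Fi24} (h : CT s) (g : Fi24) : CT (g * s * g⁻¹) := by
  obtain ⟨k, rfl⟩ := h
  exact ⟨g * k, by group⟩

theorem CT.order {s : Fi24} (h : CT s) : orderOf s = 7 := by
  obtain ⟨k, rfl⟩ := h
  have : Fact (Nat.Prime 7) := ⟨by norm_num⟩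
  have h1 : orderOf Cfsg.Agent.H842.SevenSyl.c = 7 :=
    orderOf_eq_prime Cfsg.Agent.H842.SevenSyl.c_pow Cfsg.Agent.H842.SevenSyl.c_ne
  rw [← h1]
  exact MulEquiv.orderOf_eq (MulAut.conj k) _

theorem CT.free {s : Fi24} (h : CT s) {d : Fi24} (hd : d ∈ L) : ¬ Commute s d := by
  obtain ⟨k, rfl⟩ := h
  intro hc
  have h1 := hc.map (MulAut.conj k⁻¹).toMonoidHom
  have h2 : Commute (k⁻¹ * (k * Cfsg.Agent.H842.SevenSyl.c * k⁻¹) * k⁻¹⁻¹) (k⁻¹ * d * k⁻¹⁻¹) := h1
  rw [show k⁻¹ * (k * Cfsg.Agent.H842.SevenSyl.c * k⁻¹) * k⁻¹⁻¹ = Cfsg.Agent.H842.SevenSyl.c by group] at h2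
  exact Cfsg.Agent.H842.SevenSyl.not_comm_c (Cfsg.Agent.R08.FiTwentyFour.conj hd k⁻¹) h2.eq

theorem CT.notin {s : Fi24} (h : CT s) (g : Fi24) : g * s * g⁻¹ ∉ zpowers y7 := by
  obtain ⟨k, rfl⟩ := h
  intro h1
  refine Cfsg.Agent.H842.SevenSyl.not_conj_y7 (g := g * k) ?_
  rwa [show g * k * Cfsg.Agent.H842.SevenSyl.c * (g * k)⁻¹ = g * (k * Cfsg.Agent.H842.SevenSyl.c * k⁻¹) * g⁻¹ by group]

theorem CT.cMod {s w : Fi24} (h : CT s) (hc : Commute s w) : cM w ≡ 0 [MOD 7] := by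
  have h1 := cM_mod h.order hc
  have h2 : IsEmpty {d : Mv w // Commute s (d : Fi24)} := ⟨fun d => h.free d.1.2.1 d.2⟩
  rwa [Nat.card_of_isEmpty] at h1

/-- an element of order 3 commuting with a conjugate of `c` is in the class 1 -/
theorem CT.cl {s w : Fi24} (h : CT s) (hc : Commute s w) (h3 : w ^ 3 = 1) (h1 : w ≠ 1) : Cl 1 w := by
  obtain ⟨i, hi⟩ := exists_cl h3 h1
  have hm := h.cMod hc
  have key : i = 2 ∨ i = 4 → False := by
    intro h24
    rcases cl_cases h24 with hz | hw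
    · rw [hi.cM_eq, ← hz.cM_eq, cMz] at hm
      exact absurd hm (by decide)
    · obtain ⟨g, hg⟩ := hi.conj hw
      have hc' : Commute (g * s * g⁻¹) w1 := by
        have h4 : Commute (g * s * g⁻¹) (g * w * g⁻¹) := hc.map (MulAut.conj g).toMonoidHom
        rcases hg with hg | hg
        · rwa [hg] at h4
        · rw [hg] at h4
          have := h4.inv_right
          rwa [inv_inv] at this
      obtain ⟨k, hk⟩ := conj_of_w1 (h.conj g).order hc'
      exact (h.conj g).notin k hk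
  rw [hi.cM_eq] at hm
  fin_cases i
  · exfalso
    have h : cM (X 0) ≡ 0 [MOD 7] := hm
    rw [cM0] at h
    exact absurd h (by decide)
  · exact hi
  · exact (key (Or.inl rfl)).elim
  · exfalso
    have h : cM (X 3) ≡ 0 [MOD 7] := hm
    rw [cM3] at h
    exact absurd h (by decide)
  · exact (key (Or.inr rfl)).elim

theorem CT.no {s y : Fi24} (h : CT s) (hc : Commute s y) (hy : orderOf y = 9) : False := by
  have h1 : (y ^ 3) ^ 3 = 1 := by
    rw [← pow_mul]
    have h0 := pow_orderOf_eq_one y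
    rwa [hy] at h0
  have h2 : y ^ 3 ≠ 1 := by
    intro h2
    have h3 := orderOf_dvd_of_pow_eq_one h2
    rw [hy] at h3
    exact absurd h3 (by decide)
  have h3 := h.cl (hc.pow_right 3) h1 h2
  have h4 := cent_cl1 h3 h.order (n := 2) (y := y) (by rw [hy]; rfl) (hc.pow_right 3) ((Commute.refl y).pow_right 3) hc
  obtain ⟨m, hm⟩ := h4
  have hm' : (y ^ 3) ^ m = y := hm
  have h5 : y ^ 3 = 1 := by
    calc y ^ 3 = ((y ^ 3) ^ m) ^ 3 := by rw [hm']
      _ = ((y ^ 3) ^ 3) ^ m := by rw [← zpow_natCast, ← zpow_mul, mul_comm, zpow_mul, zpow_natCast]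
      _ = 1 := by rw [h1, one_zpow]
  exact h2 h5

theorem y7_no {y : Fi24} (hc : Commute y y7) (hy : orderOf y = 9) : False := by
  obtain ⟨i, σ, h⟩ := exists_of_comm7 hc.eq
  have h4 : Commute (y7 ^ i) (Psi σ) := ((y7_Psi σ).symm).pow_left i
  have h1 : y = y ^ 28 := by
    rw [show 28 = 9 * 3 + 1 by norm_num, pow_succ, pow_mul, ← hy, pow_orderOf_eq_one, one_pow, one_mul]
  have h2 : y = Psi (σ ^ 28) := by
    rw [h1, h, h4.mul_pow, ← pow_mul, show i * 28 = 7 * (i * 4) by ring, pow_mul, Cfsg.Agent.H842.SevenSyl.y7_pow,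
      one_pow, one_mul, map_pow]
  apply not_nine (σ ^ 28)
  rw [← orderOf_injective Psi Psi_injective, ← h2, hy]

/-- **`Fi₂₄` has no commuting elements of orders 7 and 9.** -/
theorem no63 {s y : Fi24} (hs : orderOf s = 7) (hy : orderOf y = 9) (hc : Commute s y) : False := by
  obtain ⟨g, hg⟩ := Cfsg.Agent.H842.SevenSyl.cases7 (X := zpowers s) (by rw [Nat.card_zpowers, hs])
  have hcg : Commute (g * s * g⁻¹) (g * y * g⁻¹) := hc.map (MulAut.conj g).toMonoidHom
  have hyg : orderOf (g * y * g⁻¹) = 9 := by rw [← hy]; exact MulEquiv.orderOf_eq (MulAut.conj g) y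
  have key : ∀ z : Fi24, (zpowers s).map (MulAut.conj g).toMonoidHom = zpowers z → Commute z (g * y * g⁻¹) := by
    intro z hz
    have h1 : z ∈ (zpowers s).map (MulAut.conj g).toMonoidHom := by rw [hz]; exact mem_zpowers z
    obtain ⟨_, ⟨m, rfl⟩, h2⟩ := h1
    have h3 : (g * s * g⁻¹) ^ m = z := by rw [conj_zpow]; exact h2
    rw [← h3]
    exact hcg.zpow_left m
  rcases hg with hg | hg
  · exact y7_no (key _ hg).symm hyg
  · exact CT.no ⟨1, by group⟩ (key _ hg) hyg

/-- **`Fi₂₄'` has no element of order divisible by 63.** -/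
theorem not_63_dvd {T : Type*} [Group T] [Finite T] (h : Spor.IsoFi24' T) (z : T) : ¬ 63 ∣ orderOf z := by
  obtain ⟨e⟩ := h
  intro hz
  have h0 : orderOf z ≠ 0 := (orderOf_pos z).ne'
  have h1 : orderOf (z ^ (orderOf z / 7)) = 7 := orderOf_pow_orderOf_div h0 (dvd_trans (by norm_num) hz)
  have h2 : orderOf (z ^ (orderOf z / 9)) = 9 := orderOf_pow_orderOf_div h0 (dvd_trans (by norm_num) hz)
  have h3 : Commute (z ^ (orderOf z / 7)) (z ^ (orderOf z / 9)) := (Commute.refl z).pow_pow _ _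
  refine no63 (s := (e (z ^ (orderOf z / 7)) : Fi24)) (y := (e (z ^ (orderOf z / 9)) : Fi24)) ?_ ?_ ?_
  · rw [Subgroup.orderOf_coe, MulEquiv.orderOf_eq, h1]
  · rw [Subgroup.orderOf_coe, MulEquiv.orderOf_eq, h2]
  · exact congrArg Subtype.val (h3.map e).eq

end Cfsg.Agent.H713.B0R.FiSeven
end
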